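import Cfsg.Agent.H708.O8.Par_m3
import Cfsg.Agent.H424.Spr.Two
import Cfsg.Agent.H375.O8.TypeA_m3
import Cfsg.Agent.H917.OmMain
import Cfsg.Agent.H879.Nine.Ctx_m3
import Cfsg.Agent.H936.List12c
import Cfsg.Agent.H175.LD.Core33
import Cfsg.Agent.H464.L2StageOne_m3
import Cfsg.Agent.H937.G24.Row
import Cfsg.Agent.H878.Sz.MainThree
import Cfsg.Agent.H878.Sz.MainP3
import Cfsg.Agent.H179.JoneL
import Cfsg.Agent.H659.J1Not11
import Cfsg.Agent.H95.JT.Core
import Cfsg.Agent.H753.AbSz
import Cfsg.Agent.S2126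
import Cfsg.Agent.FastGrp
import Cfsg.Agent.Prune
set_option linter.all false

section
prune_inst 0x7ffffdffbbf97ddeffff7e7ffefddffc3b929fffe6dff94bffeae9ff2bffa31c0be5fbaf0de010fe1ef6e21418b87853f9ffeeffeb6bdc7ffffd5ff45ffbee5ff7ffbd0151d698340ffc6ffff3f0778e7f3fffffffffffffffffffffffffffaeffbfffffffff

-- part: H823/O8S/Defs
section
set_option linter.all false
open scoped Cfsg.Agent.FastGrp

/-!
# S3938-OPLUS8: 3/2-generation of `PΩ⁺₈(q)`, `q ≥ 4`: definitions (helper823)

`V = F ^ (Fin 4 ⊕ Fin 4)` with the form `quadFormPlus 4 F`; `r` a primitive prime divisor of `p ^ (6 a) - 1`, `q = p ^ a`;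
`V = V₆ ⊥ W` with `V₆ = [V, x]`, `W = C_V(x)`, `x` of order `r ^ k`, `t` of order `(q + 1) / (2, q - 1)`, trivial on `V₆`.
-/

set_option autoImplicit false

namespace Cfsg.Agent.H823.O8S

open Module QuadraticMap Cfsg Cfsg.Geo Cfsg.Agent.LieClassical.OrthCore Cfsg.Agent.H955 Cfsg.Agent.H954.TSing
open Cfsg.Agent.LieClassical.OmegaReindex
open Cfsg.Agent.H951 (fx cm Inv)
open Cfsg.Agent.H884.El
open Cfsg.Agent.H708.O8 (I8 T8)
open Cfsg.Agent.H436 (Prim)
open scoped MatrixGroups Matrix

/-- the numbers: `q = p ^ a ≥ 4`, `q ≠ 5`, `r` is a primitive prime divisor of `p ^ (6 a) - 1` -/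
structure RK (p a r k : ℕ) : Prop where
  hp : p.Prime
  ha : 1 ≤ a
  four : 4 ≤ p ^ a
  five : p ^ a ≠ 5
  prim : Prim p (6 * a) r
  dvd : r ^ k ∣ p ^ (3 * a) + 1
  cases : (13 ≤ r ∧ k = 1) ∨ (r = 7 ∧ k = 2)

/-- the order of `t` -/
def mt (q : ℕ) : ℕ := (q + 1) / Nat.gcd 2 (q - 1)

/-- the two elements; `s = x t` -/
structure Wit {F : Type} [Field F] [Fintype F] (x t : GL I8 F) (N : ℕ) : Prop where
  x_mem : x ∈ omegaGL (quadFormPlus 4 F)
  t_mem : t ∈ omegaGL (quadFormPlus 4 F)
  x_ord : orderOf x = N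
  t_ord : orderOf t = mt (Nat.card F)
  comm : x * t = t * x
  x_dim : finrank F (cm (lin x)) = 6
  t_dim : finrank F (cm (lin t)) = 2
  le : cm (lin t) ≤ fx (lin x)

/-- `F[J]` is a field of order `q²`, and its elements are similitudes -/
structure Fld {F : Type} [Field F] (J : Module.End F (I8 → F)) (c d : F) : Prop where
  sq : J * J = c • J - d • (1 : Module.End F (I8 → F))
  irr : ∀ z : F, z * z - c * z + d ≠ 0
  sim : ∀ v, quadFormPlus 4 F (J v) = d * quadFormPlus 4 F v

/-- the two fields `F[J]`, `F[J']` centralised by `x` and `t`; they agree on `V₆` and are conjugate on `W` -/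
structure Two {F : Type} [Field F] [Fintype F] (x t : GL I8 F) (J J' : Module.End F (I8 → F)) (c d : F) : Prop where
  fJ : Fld J c d
  fJ' : Fld J' c d
  cx : J * lin x = lin x * J
  ct : J * lin t = lin t * J
  cx' : J' * lin x = lin x * J'
  ct' : J' * lin t = lin t * J'
  agree : ∀ v ∈ cm (lin x), J' v = J v
  conj : ∀ v ∈ fx (lin x), J' v = c • v - J v

section gen

variable {F : Type} [Field F]

theorem lin_mul_apply (g h : GL I8 F) (v : I8 → F) : lin (g * h) v = lin g (lin h v) := by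
  rw [lin, lin, lin, Units.val_mul, Matrix.toLin'_mul, LinearMap.comp_apply]

theorem lin_inv_apply (g : GL I8 F) (v : I8 → F) : lin g⁻¹ (lin g v) = v := by
  rw [← lin_mul_apply, inv_mul_cancel, lin_one, Module.End.one_apply]

theorem lin_apply_inv (g : GL I8 F) (v : I8 → F) : lin g (lin g⁻¹ v) = v := by
  rw [← lin_mul_apply, mul_inv_cancel, lin_one, Module.End.one_apply]

/-- the normaliser of `F[J]` in `GL` -/
def NJ (J : Module.End F (I8 → F)) (c : F) : Subgroup (GL I8 F) where
  carrier := {g | (∀ v, lin g (J v) = J (lin g v)) ∨ (∀ v, lin g (J v) = c • lin g v - J (lin g v))}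
  one_mem' := Or.inl fun v => by rw [lin_one, Module.End.one_apply, Module.End.one_apply]
  mul_mem' := by
    rintro g h (hg | hg) (hh | hh)
    · exact Or.inl fun v => by rw [lin_mul_apply, hh, hg, lin_mul_apply]
    · exact Or.inr fun v => by rw [lin_mul_apply, hh, map_sub, hg, map_smul, lin_mul_apply]
    · exact Or.inr fun v => by rw [lin_mul_apply, hh, hg, lin_mul_apply]
    · exact Or.inl fun v => by
        rw [lin_mul_apply, hh, map_sub, hg, map_smul, lin_mul_apply]
        abel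
  inv_mem' := by
    rintro g (hg | hg)
    · refine Or.inl fun v => ?_
      have h := hg (lin g⁻¹ v)
      rw [lin_apply_inv] at h
      rw [← h, lin_inv_apply]
    · refine Or.inr fun v => ?_
      have h := hg (lin g⁻¹ v)
      rw [lin_apply_inv] at h
      have h2 : J v = c • v - lin g (J (lin g⁻¹ v)) := by
        rw [h]
        abel
      rw [h2, map_sub, map_smul, lin_inv_apply]

theorem mem_NJ {J : Module.End F (I8 → F)} {c : F} {g : GL I8 F} : g ∈ NJ J c ↔
    (∀ v, lin g (J v) = J (lin g v)) ∨ (∀ v, lin g (J v) = c • lin g v - J (lin g v)) := Iff.rfl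

/-- the stabiliser of a subspace -/
def SW (W : Submodule F (I8 → F)) : Subgroup (GL I8 F) where
  carrier := {g | W.map (lin g) = W}
  one_mem' := by rw [Set.mem_setOf_eq, lin_one]; exact Submodule.map_id W
  mul_mem' := by
    intro g h hg hh
    rw [Set.mem_setOf_eq] at hg hh ⊢
    have e : lin (g * h) = (lin g).comp (lin h) := LinearMap.ext fun v => lin_mul_apply g h v
    rw [e, Submodule.map_comp, hh, hg]
  inv_mem' := by
    intro g hg
    rw [Set.mem_setOf_eq] at hg ⊢
    have e : (lin g⁻¹).comp (lin g) = LinearMap.id := LinearMap.ext fun v => lin_inv_apply g v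
    conv_lhs => rw [← hg]
    rw [← Submodule.map_comp, e, Submodule.map_id]

theorem mem_SW {W : Submodule F (I8 → F)} {g : GL I8 F} : g ∈ SW W ↔ W.map (lin g) = W := Iff.rfl

variable [Fintype F]

/-- the image in `PΩ⁺₈(q)` of a subgroup of `GL` -/
def tp (H : Subgroup (GL I8 F)) : Subgroup (T8 F) :=
  (H.comap ((isometryGroup F (quadFormPlus 4 F)).subtype.comp (Omega F (quadFormPlus 4 F)).subtype)).map
    (QuotientGroup.mk' (Subgroup.center (Omega F (quadFormPlus 4 F))))

theorem le_tp {K : Subgroup (T8 F)} {H : Subgroup (GL I8 F)} (h : pre (quadFormPlus 4 F) K ≤ H) : K ≤ tp H := by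
  intro y hy
  obtain ⟨g, rfl⟩ := QuotientGroup.mk'_surjective _ y
  exact ⟨g, h (mem_pre.2 hy), rfl⟩

theorem mk_mem_tp {H : Subgroup (GL I8 F)} {g : Omega F (quadFormPlus 4 F)}
    (h : ((g : isometryGroup F (quadFormPlus 4 F)) : GL I8 F) ∈ H) :
    QuotientGroup.mk' (Subgroup.center (Omega F (quadFormPlus 4 F))) g ∈ tp H := ⟨g, h, rfl⟩

/-- the three overgroups of `s = x t` -/
def U₁ (x : GL I8 F) : Subgroup (T8 F) := tp (SW (fx (lin x)))

def U₂ (J : Module.End F (I8 → F)) (c : F) : Subgroup (T8 F) := tp (NJ J c)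

end gen

end Cfsg.Agent.H823.O8S
end

-- part: H823/O8S/Base
section
prune_inst 0x200000680010000000000000001c4292000000000b00000000000005880c4080400620be3000001080900470300040001000000000000000003000011a0080000082001050ac00100000000000000000000000000000000000000000000000000000000
set_option linter.all false
open scoped Cfsg.Agent.FastGrp

/-!
# S3938-OPLUS8: basic facts about `x`, `t` (helper823)
-/

set_option autoImplicit false
set_option linter.unusedSectionVars false

namespace Cfsg.Agent.H823.O8S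

open Module QuadraticMap Cfsg Cfsg.Geo Cfsg.Agent.LieClassical.OrthCore Cfsg.Agent.H955 Cfsg.Agent.H954.TSing
open Cfsg.Agent.LieClassical.OmegaReindex
open Cfsg.Agent.H951 (fx cm Inv Irr)
open Cfsg.Agent.H884.El
open Cfsg.Agent.H708.O8 (I8 T8)
open Cfsg.Agent.H436 (Prim)
open scoped MatrixGroups Matrix

/-! ### numbers -/

theorem prim_pp {q e r : ℕ} (hq : 1 ≤ q) (h : Prim q e r) : PP q e r := by
  refine ⟨h.prime, ?_⟩
  apply Nat.dvd_antisymm
  · rw [← Cfsg.Agent.Lib.Zsigmondy.dvd_pow_sub_one_iff hq]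
    exact h.dvd dvd_rfl
  · rw [← h.dvd_iff, Cfsg.Agent.Lib.Zsigmondy.dvd_pow_sub_one_iff hq]

section num

variable {p a r k : ℕ}

/-- the weak form of `RK`, which includes `q = 5` (`r = 7`, `k = 1`, `mt 5 = 3`) -/
structure RW (p a r k : ℕ) : Prop where
  hp : p.Prime
  ha : 1 ≤ a
  four : 4 ≤ p ^ a
  prim : Prim p (6 * a) r
  dvd : r ^ k ∣ p ^ (3 * a) + 1
  hk : 1 ≤ k

theorem RK.weak (h : RK p a r k) : RW p a r k :=
  ⟨h.hp, h.ha, h.four, h.prim, h.dvd, by rcases h.cases with h1 | h1 <;> omega⟩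

theorem RW.pp (h : RW p a r k) : PP (p ^ a) 6 r := by
  have h1 : PP p (a * 6) r := by
    rw [mul_comm]
    exact prim_pp h.hp.one_le h.prim
  exact h1.of_pow h.ha

theorem RK.pp (h : RK p a r k) : PP (p ^ a) 6 r := h.weak.pp

theorem RK.hk (h : RK p a r k) : 1 ≤ k := by
  rcases h.cases with h1 | h1 <;> omega

theorem RK.seven (h : RK p a r k) : 7 ≤ r := by
  rcases h.cases with h1 | h1 <;> omega

theorem mt_dvd (q : ℕ) (hq : 1 ≤ q) : mt q ∣ q + 1 := by
  refine Nat.div_dvd_of_dvd ?_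
  have h1 : Nat.gcd 2 (q - 1) ∣ 2 := Nat.gcd_dvd_left _ _
  have h2 : Nat.gcd 2 (q - 1) ∣ q - 1 := Nat.gcd_dvd_right _ _
  have h3 : q + 1 = (q - 1) + 2 := by omega
  rw [h3]
  exact dvd_add h2 h1

theorem mt_eq (q : ℕ) (hq : 1 ≤ q) : mt q * Nat.gcd 2 (q - 1) = q + 1 := by
  refine Nat.div_mul_cancel ?_
  have h1 : Nat.gcd 2 (q - 1) ∣ 2 := Nat.gcd_dvd_left _ _
  have h2 : Nat.gcd 2 (q - 1) ∣ q - 1 := Nat.gcd_dvd_right _ _
  have h3 : q + 1 = (q - 1) + 2 := by omega
  rw [h3]
  exact dvd_add h2 h1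

theorem RW.mt_three (h : RW p a r k) : 3 ≤ mt (p ^ a) := by
  have h1 := mt_eq (p ^ a) (by have := h.four; omega)
  have h3 := h.four
  have h4 : Nat.gcd 2 (p ^ a - 1) ∣ 2 := Nat.gcd_dvd_left _ _
  have h6 : Nat.gcd 2 (p ^ a - 1) = 1 ∨ Nat.gcd 2 (p ^ a - 1) = 2 := (Nat.dvd_prime Nat.prime_two).1 h4
  rcases h6 with h6 | h6
  · rw [h6] at h1; omega
  · rw [h6] at h1; omega

theorem RK.mt_four (h : RK p a r k) : 4 ≤ mt (p ^ a) := by
  have h1 := mt_eq (p ^ a) (by have := h.four; omega)
  have h2 : Nat.gcd 2 (p ^ a - 1) ≤ 2 := Nat.le_of_dvd (by norm_num) (Nat.gcd_dvd_left _ _)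
  have h3 := h.four
  have h5 := h.five
  have h4 : Nat.gcd 2 (p ^ a - 1) ∣ 2 := Nat.gcd_dvd_left _ _
  have h6 : Nat.gcd 2 (p ^ a - 1) = 1 ∨ Nat.gcd 2 (p ^ a - 1) = 2 := (Nat.dvd_prime Nat.prime_two).1 h4
  rcases h6 with h6 | h6
  · rw [h6] at h1; omega
  · rw [h6] at h1
    have h7 : p ^ a ≠ 6 := by
      intro h0
      have h8 : p ∣ 6 := by rw [← h0]; exact dvd_pow_self p (by have := h.ha; omega)
      have h9 : (2 : ℕ) ∣ p ^ a := by rw [h0]; norm_num
      have h10 : (3 : ℕ) ∣ p ^ a := by rw [h0]; norm_num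
      have h11 := (Nat.prime_dvd_prime_iff_eq Nat.prime_two h.hp).1 (Nat.prime_two.dvd_of_dvd_pow h9)
      have h12 := (Nat.prime_dvd_prime_iff_eq Nat.prime_three h.hp).1 (Nat.prime_three.dvd_of_dvd_pow h10)
      omega
    omega

end num

/-! ### the two elements -/

variable {F : Type} [Field F] [Fintype F]

theorem finrank_I8 : finrank F (I8 → F) = 8 := by
  rw [finrank_fintype_fun_eq_card]
  simp

theorem mem_iso_of_omega {g : GL I8 F} (hg : g ∈ omegaGL (quadFormPlus 4 F)) : g ∈ isometryGroup F (quadFormPlus 4 F) := by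
  obtain ⟨y, -, rfl⟩ := hg
  exact y.2

theorem iso_of_omega {g : GL I8 F} (hg : g ∈ omegaGL (quadFormPlus 4 F)) (v : I8 → F) :
    quadFormPlus 4 F (lin g v) = quadFormPlus 4 F v := by
  have h : isometryGroup F (quadFormPlus 4 F) ≤ isometryGroup F (⇑(quadPlus 4 F)) := by rw [coe_quadPlus]
  have := lin_iso h (mem_iso_of_omega hg) v
  rwa [coe_quadPlus] at this

/-- consequences of `Wit`; `z` is a power of `x` of order `r` -/
structure Base (x t z : GL I8 F) (r : ℕ) : Prop where
  z_mem : z ∈ Subgroup.zpowers x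
  z_eq : ∃ n : ℕ, z = x ^ n
  pp : PP (Nat.card F) 6 r
  z_pow : z ^ r = 1
  z_ne : z ≠ 1
  cmz : cm (lin z) = cm (lin x)
  fxz : fx (lin z) = fx (lin x)
  irr6 : _root_.Cfsg.Agent.H951.Irr (lin z) (cm (lin x))
  irr2 : _root_.Cfsg.Agent.H951.Irr (lin t) (fx (lin x))
  compl : IsCompl (fx (lin x)) (cm (lin x))
  dim6 : finrank F (cm (lin x)) = 6
  dim2 : finrank F (fx (lin x)) = 2
  tW : cm (lin t) = fx (lin x)
  tV : fx (lin t) = cm (lin x)
  perp : ∀ u ∈ fx (lin x), ∀ v ∈ cm (lin x), polar (quadFormPlus 4 F) u v = 0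

theorem polar_iso' {g : GL I8 F} (hg : ∀ v, quadFormPlus 4 F (lin g v) = quadFormPlus 4 F v) (u v : I8 → F) :
    polar (quadFormPlus 4 F) (lin g u) (lin g v) = polar (quadFormPlus 4 F) u v := by
  simp only [polar, ← map_add, hg]

theorem lin_pow (g : GL I8 F) (n : ℕ) : lin (g ^ n) = lin g ^ n := by
  rw [lin, H251.GeoCard.toLin_pow]

theorem pow_one_fx {f : Module.End F (I8 → F)} {v : I8 → F} (hv : v ∈ fx f) (n : ℕ) : v ∈ fx (f ^ n) :=
  H951.mem_fx.2 (H951.pow_fx (H951.mem_fx.1 hv) n)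

theorem cm_pow_le (f : Module.End F (I8 → F)) (n : ℕ) : cm (f ^ n) ≤ cm f := by
  rintro _ ⟨v, rfl⟩
  have : (f ^ n - 1 : Module.End F (I8 → F)) = (f - 1) * ∑ i ∈ Finset.range n, f ^ i := (mul_geom_sum f n).symm
  rw [this, Module.End.mul_apply]
  exact ⟨_, rfl⟩

/-- a vector orthogonal to `[V, g]` is fixed by `g` and conversely -/
theorem polar_cm_fx {g : GL I8 F} (hg : ∀ v, quadFormPlus 4 F (lin g v) = quadFormPlus 4 F v) {u v : I8 → F}
    (hu : u ∈ fx (lin g)) (hv : v ∈ cm (lin g)) : polar (quadFormPlus 4 F) u v = 0 := by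
  obtain ⟨w, rfl⟩ := H951.mem_cm.1 hv
  have h1 := polar_iso' hg u w
  rw [H951.mem_fx.1 hu] at h1
  have h2 : polar (quadFormPlus 4 F) u (lin g w - w) =
      polar (quadFormPlus 4 F) u (lin g w) - polar (quadFormPlus 4 F) u w := by
    rw [← coe_quadPlus]
    exact polar_sub_right (quadPlus 4 F) u (lin g w) w
  rw [h2, h1, sub_self]

/-- **basic facts** -/
theorem base_w {p a r k : ℕ} (hF : Nat.card F = p ^ a) (h : RW p a r k) {x t : GL I8 F} (w : Wit x t (r ^ k)) :
    ∃ z, Base x t z r := by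
  have hpp : PP (Nat.card F) 6 r := by rw [hF]; exact h.pp
  have hk := h.hk
  have hrpos : 0 < r := hpp.prime.pos
  have hr0 : (r : F) ≠ 0 := hpp.ne0 (by norm_num)
  have hxiso := iso_of_omega w.x_mem
  have htiso := iso_of_omega w.t_mem
  have hq4 := h.four
  -- `z`
  obtain ⟨z, hz⟩ : ∃ z : GL I8 F, z = x ^ r ^ (k - 1) := ⟨_, rfl⟩
  have hzr : z ^ r = 1 := by
    rw [hz, ← pow_mul, ← pow_succ, Nat.sub_add_cancel hk, ← w.x_ord, pow_orderOf_eq_one]
  have hz1 : z ≠ 1 := by
    intro h1
    have h2 : orderOf x ∣ r ^ (k - 1) := orderOf_dvd_of_pow_eq_one (hz ▸ h1)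
    rw [w.x_ord] at h2
    have h3 := Nat.le_of_dvd (pow_pos hrpos _) h2
    have h4 := Nat.pow_lt_pow_right hpp.prime.one_lt (show k - 1 < k by omega)
    omega
  have hziso : ∀ v, quadPlus 4 F (lin z v) = quadPlus 4 F v := by
    have h1 : z ∈ omegaGL (quadFormPlus 4 F) := hz ▸ Subgroup.pow_mem _ w.x_mem _
    have h2 := iso_of_omega h1
    rwa [← coe_quadPlus] at h2
  have hI : Iso (quadPlus 4 F) (lin z) r := Iso.mk' hpp (by norm_num) (by rw [← lin_pow, hzr, lin_one]) hziso
  -- dimensions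
  have hxN : lin x ^ (r ^ k) = 1 := by rw [← lin_pow, ← w.x_ord, pow_orderOf_eq_one, lin_one]
  have hN0 : ((r ^ k : ℕ) : F) ≠ 0 := by
    rw [Nat.cast_pow]
    exact pow_ne_zero _ hr0
  have hcompl := H951.isCompl_fx_cm hN0 hxN
  have hadd := H951.finrank_fx_add_cm hN0 hxN
  rw [w.x_dim, finrank_I8] at hadd
  have hle : cm (lin z) ≤ cm (lin x) := by
    rw [hz, lin_pow]
    exact cm_pow_le _ _
  have hd6 : 6 ∣ finrank F (cm (lin z)) := hI.dvd_cm hpp
  have hne : cm (lin z) ≠ ⊥ := cm_ne_bot (lin_ne_one hz1)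
  have hpos : 0 < finrank F (cm (lin z)) := by
    rw [Nat.pos_iff_ne_zero]
    intro h0
    exact hne (Submodule.finrank_eq_zero.1 h0)
  have hz6 : finrank F (cm (lin z)) = 6 := by
    have h1 := Submodule.finrank_mono hle
    rw [w.x_dim] at h1
    have h2 := Nat.le_of_dvd hpos hd6
    omega
  have hcmz : cm (lin z) = cm (lin x) := Submodule.eq_of_le_of_finrank_eq hle (by rw [hz6, w.x_dim])
  have hfxz : fx (lin z) = fx (lin x) := by
    have h1 : fx (lin x) ≤ fx (lin z) := by
      rw [hz, lin_pow]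
      exact fun v hv => pow_one_fx hv _
    have h2 := hI.finrank_add
    rw [hz6, finrank_I8] at h2
    have e1 : finrank F (fx (lin x)) = 2 := Nat.add_right_cancel (m := 6) hadd
    have e2 : finrank F (fx (lin z)) = 2 := Nat.add_right_cancel (m := 6) h2
    exact (Submodule.eq_of_le_of_finrank_eq h1 (e1.trans e2.symm)).symm
  have hirr6 : _root_.Cfsg.Agent.H951.Irr (lin z) (cm (lin x)) := by
    refine ⟨?_, ?_, ?_⟩
    · intro h0
      rw [hcmz, h0] at hne
      exact hne rfl
    · rw [← hcmz]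
      exact H951.inv_cm
    · intro U hU hUi
      have h1 := hI.dvd hpp hUi
      rw [inf_eq_left.2 (hcmz ▸ hU)] at h1
      have h2 := Submodule.finrank_mono hU
      rcases Nat.eq_zero_or_pos (finrank F U) with h0 | h0
      · exact Or.inl (Submodule.finrank_eq_zero.1 h0)
      · right
        have h3 := Nat.le_of_dvd h0 h1
        rw [w.x_dim] at h2
        exact Submodule.eq_of_le_of_finrank_eq hU (by rw [w.x_dim]; omega)
  have hperp : ∀ u ∈ fx (lin x), ∀ v ∈ cm (lin x), polar (quadFormPlus 4 F) u v = 0 := fun u hu v hv =>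
    polar_cm_fx hxiso hu hv
  have htW : cm (lin t) = fx (lin x) := Submodule.eq_of_le_of_finrank_eq w.le (by rw [w.t_dim]; omega)
  -- `m` is prime to `p`
  have hmF : ((mt (Nat.card F) : ℕ) : F) ≠ 0 := by
    intro h0
    have h1 := mt_dvd (Nat.card F) (by rw [hF]; omega)
    obtain ⟨c, hc⟩ := h1
    have h2 : ((Nat.card F + 1 : ℕ) : F) = 0 := by rw [hc, Nat.cast_mul, h0, zero_mul]
    rw [Nat.cast_add, Nat.card_eq_fintype_card, FiniteField.cast_card_eq_zero, Nat.cast_one, zero_add] at h2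
    exact one_ne_zero h2
  have htm : lin t ^ (mt (Nat.card F)) = 1 := by rw [← lin_pow, ← w.t_ord, pow_orderOf_eq_one, lin_one]
  have htc := H951.isCompl_fx_cm hmF htm
  have hta := H951.finrank_fx_add_cm hmF htm
  rw [w.t_dim, finrank_I8] at hta
  have htV : fx (lin t) = cm (lin x) := by
    -- `cm x` is orthogonal to `cm t`
    symm
    refine Submodule.eq_of_le_of_finrank_eq ?_ (by rw [w.x_dim]; omega)
    intro v hv
    rw [H951.mem_fx]
    have h1 : ∀ u, polar (quadFormPlus 4 F) u (lin t v - v) = 0 := by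
      intro u
      have h2 : polar (quadFormPlus 4 F) (lin t⁻¹ u - u) v = 0 := by
        refine hperp _ ?_ v hv
        rw [← htW]
        have h3 : lin t⁻¹ u - u = lin t (-(lin t⁻¹ u)) - (-(lin t⁻¹ u)) := by
          rw [map_neg, lin_apply_inv]
          abel
        rw [h3]
        exact H951.mem_cm.2 ⟨_, rfl⟩
      have h4 : polar (quadFormPlus 4 F) (lin t⁻¹ u) v = polar (quadFormPlus 4 F) u (lin t v) := by
        rw [← polar_iso' htiso (lin t⁻¹ u) v, lin_apply_inv]
      have h5 : polar (quadFormPlus 4 F) (lin t⁻¹ u - u) v =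
          polar (quadFormPlus 4 F) (lin t⁻¹ u) v - polar (quadFormPlus 4 F) u v := by
        rw [← coe_quadPlus]
        exact polar_sub_left (quadPlus 4 F) _ _ _
      have h6 : polar (quadFormPlus 4 F) u (lin t v - v) =
          polar (quadFormPlus 4 F) u (lin t v) - polar (quadFormPlus 4 F) u v := by
        rw [← coe_quadPlus]
        exact polar_sub_right (quadPlus 4 F) _ _ _
      rw [h6, ← h4, ← h5, h2]
    have h2 : (polarBilin (quadPlus 4 F)).Nondegenerate := quadPlus_nondegenerate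
    have h3 := h2.2 (lin t v - v) (fun u => by
      rw [polarBilin_apply_apply, coe_quadPlus]
      exact h1 u)
    exact sub_eq_zero.1 h3
  have hirr2 : _root_.Cfsg.Agent.H951.Irr (lin t) (fx (lin x)) := by
    refine ⟨?_, ?_, ?_⟩
    · intro h0
      rw [h0, finrank_bot] at hadd
      omega
    · rw [← htW]
      exact H951.inv_cm
    · intro U hU hUi
      have h2 := Submodule.finrank_mono hU
      by_contra hcon
      push Not at hcon
      have h3 : finrank F U = 1 := by
        have h4 : finrank F U ≠ 0 := fun h0 => hcon.1 (Submodule.finrank_eq_zero.1 h0)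
        have h5 : finrank F U ≠ 2 := fun h0 => hcon.2 (Submodule.eq_of_le_of_finrank_eq hU (by omega))
        omega
      -- eigenvalues of `t` on a line
      have eig : ∀ U : Submodule F (I8 → F), finrank F U = 1 → _root_.Cfsg.Agent.H951.Inv (lin t) U → ∀ v ∈ U, lin t (lin t v) = v := by
        intro U hU1 hUi v hv
        by_cases hv0 : v = 0
        · rw [hv0, map_zero, map_zero]
        have h4 := (finrank_eq_one_iff_of_nonzero' (⟨v, hv⟩ : U) (fun h0 => hv0 (congrArg Subtype.val h0))).1 hU1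
          ⟨lin t v, hUi v hv⟩
        obtain ⟨c, hc⟩ := h4
        have hc' : lin t v = c • v := (congrArg Subtype.val hc).symm
        have hpow : ∀ n : ℕ, (lin t ^ n) v = c ^ n • v := by
          intro n
          induction n with
          | zero => simp
          | succ n ih => rw [pow_succ', Module.End.mul_apply, ih, map_smul, hc', smul_smul, pow_succ]
        have hcm : c ^ mt (Nat.card F) = 1 := by
          have h5 := hpow (mt (Nat.card F))
          rw [htm, Module.End.one_apply] at h5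
          have h6 : (c ^ mt (Nat.card F) - 1) • v = 0 := by rw [sub_smul, one_smul, ← h5, sub_self]
          exact sub_eq_zero.1 ((smul_eq_zero.1 h6).resolve_right hv0)
        have hc0 : c ≠ 0 := by
          rintro rfl
          rw [zero_pow] at hcm
          · exact zero_ne_one hcm
          · have := h.mt_three
            rw [← hF] at this
            omega
        have hcq : c ^ (Nat.card F - 1) = 1 := by
          rw [Nat.card_eq_fintype_card]
          exact FiniteField.pow_card_sub_one_eq_one c hc0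
        have hcq1 : c ^ (Nat.card F + 1) = 1 := by
          obtain ⟨d, hd⟩ := mt_dvd (Nat.card F) (by rw [hF]; omega)
          rw [hd, pow_mul, hcm, one_pow]
        have hc2 : c ^ 2 = 1 := by
          have h5 : Nat.card F + 1 = (Nat.card F - 1) + 2 := by rw [hF]; omega
          rw [h5, pow_add, hcq, one_mul] at hcq1
          exact hcq1
        rw [hc', map_smul, hc', smul_smul, ← pow_two, hc2, one_smul]
      -- a complement
      obtain ⟨U', hU'i, -, hU'1, hU'2⟩ := H951.exists_rel_compl (H951.semisimple_of_pow hmF htm) hUi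
        (show _root_.Cfsg.Agent.H951.Inv (lin t) (fx (lin x)) by rw [← htW]; exact H951.inv_cm) hU
      have h4 : finrank F U' = 1 := by
        have h5 := H951.finrank_sup_of_disj hU'1
        rw [hU'2, h3] at h5
        omega
      -- `t² = 1`
      have h5 : t ^ 2 = 1 := by
        apply lin_injective
        rw [lin_one, lin_pow]
        refine LinearMap.ext fun v => ?_
        rw [pow_two, Module.End.mul_apply, Module.End.one_apply]
        have h6 : v ∈ fx (lin x) ⊔ cm (lin x) := by rw [hcompl.sup_eq_top]; exact Submodule.mem_top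
        obtain ⟨u, hu, v', hv', rfl⟩ := Submodule.mem_sup.1 h6
        rw [← hU'2] at hu
        obtain ⟨u1, hu1, u2, hu2, rfl⟩ := Submodule.mem_sup.1 hu
        have h7 : lin t v' = v' := by
          rw [← H951.mem_fx, htV]
          exact hv'
        rw [map_add, map_add, map_add, map_add, h7, h7, eig U h3 hUi u1 hu1, eig U' h4 hU'i u2 hu2]
      have h6 := orderOf_dvd_of_pow_eq_one h5
      rw [w.t_ord] at h6
      have h7 := Nat.le_of_dvd (by norm_num) h6
      have h8 := h.mt_three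
      rw [← hF] at h8
      omega
  refine ⟨z, ⟨?_, ⟨_, hz⟩, hpp, hzr, hz1, hcmz, hfxz, hirr6, hirr2, hcompl, w.x_dim, by omega, htW, htV, hperp⟩⟩
  rw [hz]
  exact Subgroup.pow_mem _ (Subgroup.mem_zpowers x) _

theorem base {p a r k : ℕ} (hF : Nat.card F = p ^ a) (h : RK p a r k) {x t : GL I8 F} (w : Wit x t (r ^ k)) :
    ∃ z, Base x t z r := base_w hF h.weak w

end Cfsg.Agent.H823.O8S
end

-- part: H59/O8S/Num
section
prune_inst 0x200440682210000000001002002004540001900020000150600d40010e3300804009004e801c00000a32001800002001100040420000000a003000000200000028400092380f00280000800086000000000000000000000000000000051004000000000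
set_option linter.all false
open scoped Cfsg.Agent.FastGrp

/-!
# S3938-OPLUS8, (O1): the numbers (helper59)

`exists_rk` : for `q = p ^ a ≥ 4`, `q ≠ 5`, there is a primitive prime divisor `r ≥ 13` of `p ^ (6 a) - 1`, or `a = 1`,
`r = 7` and `49 ∣ p ^ 3 + 1`.
-/

set_option autoImplicit false

namespace Cfsg.Agent.H59.O8S

open Cfsg.Agent.H823.O8S
open Cfsg.Agent.H436 (Prim exists_prim)

theorem dvd_pred {p e r : ℕ} (h : Prim p e r) : e ∣ r - 1 := by
  have := Fact.mk h.prime
  rw [← h.dvd_iff]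
  have h0 : (p : ZMod r) ≠ 0 := by
    rw [Ne, ZMod.natCast_eq_zero_iff]
    exact h.not_dvd
  have h1 := ZMod.pow_card_sub_one_eq_one h0
  have hp : 0 < p ^ (r - 1) := by
    apply Nat.pos_of_ne_zero
    intro h2
    have h3 : p = 0 := by
      by_contra h4
      exact (pow_ne_zero _ h4) h2
    exact h.not_dvd (h3 ▸ dvd_zero r)
  rw [← ZMod.natCast_eq_zero_iff, Nat.cast_sub hp, Nat.cast_pow, h1, Nat.cast_one, sub_self]

/-- a prime divisor `≠ 3` of `p² - p + 1` -/
theorem prim_six {m r : ℕ} (hr : r.Prime) (hr3 : r ≠ 3) (hd : r ∣ (m + 1) * m + 1) : Prim (m + 1) 6 r := by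
  have := Fact.mk hr
  have hr2 : r ≠ 2 := by
    rintro rfl
    have h1 : 2 ∣ (m + 1) * m := by
      rcases Nat.even_or_odd m with h | h
      · exact (even_iff_two_dvd.1 h).mul_left _
      · exact (even_iff_two_dvd.1 h.add_one).mul_right _
    omega
  have hN : ∀ z : ℕ, (z : ZMod r) = 0 → r ∣ z := fun z hz => (ZMod.natCast_eq_zero_iff _ _).1 hz
  have h1 : ((m + 1 : ℕ) : ZMod r) * ((m + 1 : ℕ) : ZMod r) = ((m + 1 : ℕ) : ZMod r) - 1 := by
    have h2 : (((m + 1) * m + 1 : ℕ) : ZMod r) = 0 := (ZMod.natCast_eq_zero_iff _ _).2 hd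
    push_cast at h2 ⊢
    linear_combination h2
  obtain ⟨P, hP⟩ : ∃ P : ZMod r, P = ((m + 1 : ℕ) : ZMod r) := ⟨_, rfl⟩
  rw [← hP] at h1
  have h2 : (2 : ZMod r) ≠ 0 := by
    intro h3
    exact hr2 ((Nat.prime_dvd_prime_iff_eq hr Nat.prime_two).1 (hN 2 (by exact_mod_cast h3)))
  have h3 : (3 : ZMod r) ≠ 0 := by
    intro h3
    exact hr3 ((Nat.prime_dvd_prime_iff_eq hr Nat.prime_three).1 (hN 3 (by exact_mod_cast h3)))
  have hne : P ≠ 0 := by
    intro h4
    rw [h4, mul_zero, zero_sub] at h1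
    exact one_ne_zero (neg_eq_zero.1 h1.symm)
  have hc3 : P ^ 3 = -1 := by linear_combination (P + 1) * h1
  have h6 : orderOf P = 6 := by
    refine orderOf_eq_of_pow_and_pow_div_prime (by norm_num) ?_ ?_
    · rw [show (6 : ℕ) = 3 * 2 by norm_num, pow_mul, hc3]
      ring
    · intro l hl hl6 h7
      have h8 : l = 2 ∨ l = 3 := by
        have h9 : l ∣ 2 * 3 := hl6
        rcases (Nat.Prime.dvd_mul hl).1 h9 with h | h
        · exact Or.inl ((Nat.prime_dvd_prime_iff_eq hl Nat.prime_two).1 h)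
        · exact Or.inr ((Nat.prime_dvd_prime_iff_eq hl Nat.prime_three).1 h)
      rcases h8 with rfl | rfl
      · change P ^ 3 = 1 at h7
        rw [hc3] at h7
        apply h2
        linear_combination -h7
      · change P ^ 2 = 1 at h7
        have h8 : P = 2 := by linear_combination h7 - h1
        rw [h8] at h7
        apply h3
        linear_combination h7
  refine ⟨hr, fun n => ?_, fun h => hne ?_⟩
  · have hp : 0 < (m + 1) ^ n := Nat.pos_of_ne_zero (pow_ne_zero _ (Nat.succ_ne_zero _))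
    rw [← ZMod.natCast_eq_zero_iff, Nat.cast_sub hp, Nat.cast_pow, Nat.cast_one, sub_eq_zero, ← hP, ← h6,
      orderOf_dvd_iff_pow_eq_one]
  · rw [hP]
    exact (ZMod.natCast_eq_zero_iff _ _).2 h

theorem exists_rk {p a : ℕ} (hp : p.Prime) (ha : 1 ≤ a) (h4 : 4 ≤ p ^ a) (h5 : p ^ a ≠ 5) : ∃ r k, RK p a r k := by
  rcases Nat.lt_or_ge a 2 with h2 | h2
  · obtain rfl : a = 1 := by omega
    rw [pow_one] at h4 h5
    have h7 : 7 ≤ p := by
      by_contra hcon
      interval_cases p
      · exact absurd hp (by norm_num)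
      · exact h5 rfl
      · exact absurd hp (by norm_num)
    obtain ⟨m, rfl⟩ : ∃ m, p = m + 1 := ⟨p - 1, by omega⟩
    obtain ⟨N, hN⟩ : ∃ N, N = (m + 1) * m + 1 := ⟨_, rfl⟩
    have hNd : N ∣ (m + 1) ^ (3 * 1) + 1 := ⟨m + 2, by rw [hN]; ring⟩
    by_cases hex : ∃ r, r.Prime ∧ 13 ≤ r ∧ r ∣ N
    · obtain ⟨r, hr, h13, hd⟩ := hex
      refine ⟨r, 1, hp, le_rfl, by rwa [pow_one], by rwa [pow_one], ?_, ?_, Or.inl ⟨h13, rfl⟩⟩
      · rw [mul_one]
        exact prim_six hr (by omega) (hN ▸ hd)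
      · rw [pow_one]
        exact hd.trans hNd
    · push Not at hex
      have hdiv : ∀ r, r.Prime → r ∣ N → r = 3 ∨ r = 7 := by
        intro r hr hd
        by_cases h : r = 3
        · exact Or.inl h
        right
        have h1 := dvd_pred (prim_six hr h (hN ▸ hd))
        have h3 : r < 13 := by
          by_contra h4
          exact hex r hr (by omega) hd
        have h4 := hr.two_le
        interval_cases r <;> first | rfl | (exfalso; revert h1 hr; norm_num)
      have hN0 : N ≠ 0 := by omega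
      have hN9 : ¬ 9 ∣ N := by
        intro h9
        obtain ⟨c, d, hd, hm⟩ : ∃ c d, d < 9 ∧ m = 9 * c + d := ⟨m / 9, m % 9, Nat.mod_lt _ (by norm_num), by omega⟩
        rw [hN, hm, show (9 * c + d + 1) * (9 * c + d) + 1 = 9 * (c * (9 * c + 2 * d + 1)) + ((d + 1) * d + 1) by ring]
          at h9
        have h10 : 9 ∣ (d + 1) * d + 1 := (Nat.dvd_add_right (Dvd.intro _ rfl)).1 h9
        interval_cases d <;> (clear * - h9; omega)
      have hfac := Nat.ordProj_mul_ordCompl_eq_self N 7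
      obtain ⟨M, hM⟩ : ∃ M, M = N / 7 ^ N.factorization 7 := ⟨_, rfl⟩
      rw [← hM] at hfac
      have h7M : ¬ 7 ∣ M := by
        rw [hM]
        exact Nat.not_dvd_ordCompl (by norm_num) hN0
      have hMN : M ∣ N := by
        rw [hM]
        exact Nat.ordCompl_dvd N 7
      have hM0 : M ≠ 0 := fun h => hN0 (by rw [h] at hMN; exact zero_dvd_iff.1 hMN)
      have hM2 : ∃ c, M = 3 ^ c := by
        refine ⟨_, Nat.eq_prime_pow_of_unique_prime_dvd hM0 fun {d} hd hdM => ?_⟩
        rcases hdiv d hd (hdM.trans hMN) with h | h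
        · exact h
        · exact absurd (h ▸ hdM) h7M
      obtain ⟨c, hc⟩ := hM2
      have hc1 : c < 2 := by
        by_contra hcon
        apply hN9
        refine (?_ : 9 ∣ M).trans hMN
        rw [hc]
        exact pow_dvd_pow 3 (show 2 ≤ c by omega)
      have hMle : M ≤ 3 := by
        rw [hc]
        interval_cases c <;> norm_num
      have hNge : 43 ≤ N := by
        rw [hN]
        nlinarith only [h7]
      have hb2 : 2 ≤ N.factorization 7 := by
        by_contra hcon
        have h1 : 7 ^ N.factorization 7 ≤ 7 ^ 1 := Nat.pow_le_pow_right (by norm_num) (by omega)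
        have h3 : 7 ^ N.factorization 7 * M ≤ 7 ^ 1 * 3 := Nat.mul_le_mul h1 hMle
        omega
      have h49 : 7 ^ 2 ∣ N := (pow_dvd_pow 7 hb2).trans (Nat.ordProj_dvd N 7)
      have h7N : 7 ∣ N := (by norm_num : 7 ∣ 7 ^ 2).trans h49
      refine ⟨7, 2, hp, le_rfl, by rwa [pow_one], by rwa [pow_one], ?_, h49.trans hNd, Or.inr ⟨rfl, rfl⟩⟩
      rw [mul_one]
      exact prim_six (by norm_num) (by norm_num) (hN ▸ h7N)
  · obtain ⟨r, hr⟩ := exists_prim (q := p) (e := 6 * a) hp.two_le (by omega) (by omega)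
    have h1 := dvd_pred hr
    have h3 : 13 ≤ r := by
      have h4 := hr.prime.two_le
      have h5 := Nat.le_of_dvd (by omega) h1
      omega
    refine ⟨r, 1, hp, ha, h4, h5, hr, ?_, Or.inl ⟨h3, rfl⟩⟩
    rw [pow_one]
    apply hr.dvd_add
    · exact ⟨1, by ring⟩
    · intro hd
      have := Nat.le_of_dvd (by omega) hd
      omega

end Cfsg.Agent.H59.O8S
end

-- part: H911/O8S/Own
section
prune_inst 0x440602210000000001000003c06c6000090002b00014160094005882f0180000f20beb0120011ceb2245038406001000049420000000a003200411a00800003c2029248a100200000808880000000000000000000000000000000010004000000000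
set_option linter.all false
open scoped Cfsg.Agent.FastGrp

/-!
# S3938-OPLUS8, O3: the socles of Lie type in characteristic `p` which contain an element of order `r` (helper911)
-/

set_option autoImplicit false
set_option linter.unusedSectionVars false

namespace Cfsg.Agent.H911.O8S

open Cfsg Cfsg.Geo Cfsg.Agent.OrdDiv Cfsg.Agent.H436 Cfsg.Agent.H915.GN Cfsg.Agent.H264.GN Cfsg.Agent.H264.FKS
open Cfsg.Agent.H902 Cfsg.Agent.H902.Names Cfsg.Agent.H708.O8 Cfsg.Agent.H915.LD Cfsg.Agent.H884.El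
open Cfsg.Agent.H659.O8 Cfsg.Agent.H823.O8S
open scoped MatrixGroups Matrix

universe u

variable {p a r k : ℕ} {g : Grp}

theorem seven_le (h : RW p a r k) : 7 ≤ r := by
  have h1 : 6 * a < r := lt_of_prim h.prim
  have := h.ha
  omega

/-- `r` does not divide the order of the group of diagonal outer automorphisms -/
theorem not_dvd_dd (h : RW p a r k) {X : Art.Sh} {f : ℕ} (hg : Cond g) (hl : IsLie g X p f)
    (hf : 1 ≤ f) (hM : f * Mg g ≤ 6 * a) : ¬ r ∣ Art.dd X (p ^ f) := by
  have h7 := seven_le h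
  have h4 : ∀ {m n : ℕ}, m ≤ 4 → 0 < m → r ∣ Nat.gcd m n → False := fun h1 h2 h3 => by
    have := Nat.le_of_dvd h2 (h3.trans (Nat.gcd_dvd_left _ _))
    omega
  have h1 : r ∣ 1 → False := fun h => by
    have := Nat.dvd_one.1 h
    omega
  intro hd
  cases hl with
  | psl n p f =>
    have hd' : r ∣ Nat.gcd n (p ^ f - 1) := hd
    have h2 := hd'.trans (Nat.gcd_dvd_right _ _)
    rw [h.prim.dvd_iff] at h2
    have h3 := Nat.le_of_dvd (by omega) h2
    have h6 : f * 2 ≤ f * n := Nat.mul_le_mul_left _ hg.1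
    have h7 : f * n ≤ 6 * a := hM
    omega
  | psu n p f =>
    have hd' : r ∣ Nat.gcd n (p ^ f + 1) := hd
    have h2 := hd'.trans (Nat.gcd_dvd_right _ _)
    have h3 := h2.trans (add_dvd p f)
    rw [h.prim.dvd_iff] at h3
    have h6 := Nat.le_of_dvd (by omega) h3
    have h7 : f * (2 * (if n % 2 = 0 then n - 1 else n)) ≤ 6 * a := hM
    have h8 : f * 6 ≤ f * (2 * (if n % 2 = 0 then n - 1 else n)) := by
      apply Nat.mul_le_mul_left
      have := hg.1
      split_ifs <;> omega
    omega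
  | psp n p f => exact h4 (by norm_num) (by norm_num) hd
  | oodd n p f hn ho => exact h4 (by norm_num) (by norm_num) hd
  | oplus n p f => exact h4 (by norm_num) (by norm_num) hd
  | ominus n p f => exact h4 (by norm_num) (by norm_num) hd
  | e6 p f => exact h4 (by norm_num) (by norm_num) hd
  | e7 p f => exact h4 (by norm_num) (by norm_num) hd
  | te6 p f => exact h4 (by norm_num) (by norm_num) hd
  | _ => exact h1 hd

section
variable {F : Type} [Field F] [Fintype F]

/-- **the order argument**: the largest exponent of the socle is `6 a` -/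
theorem key (hF : Nat.card F = p ^ a) (h : RW p a r k) {R : Subgroup (T8 F)} (S : Subgroup R) [S.Normal]
    (hS : IsSimpleGroup S) (hna : ¬ IsMulCommutative S) (hC : Subgroup.centralizer (S : Set R) = ⊥)
    (hr : r ∣ Nat.card R) (hn : IsNamed g S) (hch : HasChar p g) :
    ∃ f, 1 ≤ f ∧ fld g = p ^ f ∧ f * Mg g = 6 * a ∧ KD p f (Nat.card S) (Xg g) (Yg g) (Mg g) (ag g) ∧
      TD p a (Nat.card S) (fun i => 1 ≤ i ∧ i ≤ 6 ∧ (2 ∣ i ∨ i = 4)) 6 12 := by
  have hp := h.hp
  have ha := h.ha
  have h7 := seven_le h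
  have hT8 : Nat.gcd 4 ((p ^ a) ^ 4 - 1) * Nat.card (T8 F) =
      (p ^ a) ^ (4 * (4 - 1)) * (((p ^ a) ^ 4 - 1) * prB (p ^ a) (4 - 1)) := by
    have h1 := oplus_eq (F := F) (m := 4) le_rfl
    rw [← Nat.card_eq_fintype_card, hF] at h1
    exact h1
  have hSR : Nat.card S ∣ Nat.card (T8 F) := (Subgroup.card_subgroup_dvd_card S).trans (Subgroup.card_subgroup_dvd_card R)
  have hT : TD p a (Nat.card S) (fun i => 1 ≤ i ∧ i ≤ 6 ∧ (2 ∣ i ∨ i = 4)) 6 12 := by
    refine td_oplus hp ha (n := 4) (by norm_num) (hSR.trans ?_)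
    rw [← hT8]
    exact Dvd.intro_left _ rfl
  obtain ⟨f, hf, hfl, hK, hY⟩ := kd_all hp hn.cond hch hn.eq
  have hM := top_le hp ha hK hY hT
  have h2M : f * 2 ≤ f * Mg g := Nat.mul_le_mul_left _ (H659.O8.two_le_Mg hn.cond hch)
  refine ⟨f, hf, hfl, ?_, hK, hT⟩
  have h1 := hr.trans (dvd_aut S hC)
  rw [← H934.OutB.card_out_mul S hna] at h1
  obtain ⟨X, f₁, h6, h7', h8⟩ := exists_lie hp hn hch
  obtain rfl : f₁ = f := Nat.pow_right_injective hp.two_le (h8.symm.trans hfl)
  have h6a : 6 * a < r := lt_of_prim h.prim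
  have hout : ¬ r ∣ Nat.card (Cfsg.Out S) := by
    intro h9
    obtain ⟨k, h10, h11, -⟩ := H364.OutLie.card_out (not_comm hna) h6 hn.real h7'
    rw [h10] at h9
    rcases h.prim.prime.dvd_mul.1 h9 with h12 | h12
    · rcases h.prim.prime.dvd_mul.1 (h12.trans h11) with h13 | h13
      · have h14 : r ∣ 2 ^ 3 * 3 := h13
        rcases h.prim.prime.dvd_mul.1 h14 with h15 | h15
        · have := Nat.le_of_dvd (by norm_num) (h.prim.prime.dvd_of_dvd_pow h15)
          omega
        · have := Nat.le_of_dvd (by norm_num) h15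
          omega
      · exact not_dvd_dd h hn.cond h6 hf hM h13
    · have := Nat.le_of_dvd (by omega) h12
      omega
  have hrS : r ∣ Nat.card S := by
    rcases h.prim.prime.dvd_mul.1 h1 with h2 | h2
    · exact absurd h2 hout
    · exact h2
  obtain ⟨i, hi, hd⟩ := hK.exp h.prim hrS
  obtain ⟨hi1, hi2⟩ := hK.le hi
  have h9 : 6 * a ≤ f₁ * i := Nat.le_of_dvd (Nat.mul_pos hf hi1) hd
  have h10 : f₁ * i ≤ f₁ * Mg g := Nat.mul_le_mul_left _ hi2
  omega

end

open Matrix

theorem charP_of {F : Type} [Field F] [Fintype F] {p a : ℕ} (hp : p.Prime) (hF : Nat.card F = p ^ a) : CharP F p := by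
  obtain ⟨p', hp'⟩ := CharP.exists F
  obtain ⟨n, hpr, hc⟩ := FiniteField.card F p'
  rw [← Nat.card_eq_fintype_card, hF] at hc
  have h1 : p' ∣ p ^ a := by rw [hc]; exact dvd_pow_self _ n.ne_zero
  have h2 := (Nat.prime_dvd_prime_iff_eq hpr hp).1 (hpr.dvd_of_dvd_pow h1)
  rwa [h2] at hp'

theorem nd_plus (m : ℕ) (F : Type*) [Field F] : IsNondegenerateQuadraticForm (quadFormPlus m F) := by
  rw [← LieClassical.OrthForms.coe_plusForm]
  exact H925.isND_of_nondeg (LieClassical.OrthForms.nondeg_plusForm m F)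

section
variable {F : Type} [Field F] [Fintype F] {p a r k : ℕ}

theorem mem_fix {Q : (I8 → F) → F} {g : GL I8 F} (h : g ∈ omegaGL Q) (v : I8 → F) :
    Q ((g : Matrix I8 I8 F) *ᵥ v) = Q v := by
  obtain ⟨x, -, rfl⟩ := h
  exact (ClassicalGeometry.Reflection.mem_isometryGroup_iff _ _).1 x.2 v

set_option maxHeartbeats 2000000 in
/-- **(O3)** own characteristic: the socles which contain an element of order `r` -/
theorem own (hF : Nat.card F = p ^ a) (h : RW p a r k) {R : Subgroup (T8 F)} (hR : R ≠ ⊤)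
    (S : Subgroup R) [S.Normal] (hS : IsSimpleGroup S) (hna : ¬ IsMulCommutative S)
    (hC : Subgroup.centralizer (S : Set R) = ⊥) {P : Subgroup (GL I8 F)}
    (hP : IsResidualCore (pre (quadFormPlus 4 F) R) P) (e : S ≃* Soc P) (hL : IsLieTypeChar p (Soc P))
    (hr : r ∣ Nat.card R) :
    (∃ (K : Type) (_ : Field K) (_ : Fintype K), Fintype.card K = p ^ (3 * a) ∧
      Nonempty (S ≃* Matrix.ProjectiveSpecialLinearGroup (Fin 2) K)) ∨
    IsNamed (.psu 3 (p ^ a)) S ∨
    (∃ (K : Type) (_ : Field K) (_ : Fintype K), Fintype.card K = p ^ a ∧ Nonempty (S ≃* PSp 3 K)) ∨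
    (p ≠ 2 ∧ ∃ (K : Type) (_ : Field K) (_ : Fintype K), Fintype.card K = p ^ a ∧
      Nonempty (S ≃* POmega K (quadFormOdd 3 K))) := by
  have hp := h.hp
  have ha := h.ha
  have hpf : Fact p.Prime := ⟨hp⟩
  have hch : CharP F p := charP_of hp hF
  have hcore := core_of_residual hP
  have hs := hcore.simple
  have h8 : Fintype.card I8 = 8 := by rw [Fintype.card_sum, Fintype.card_fin]
  have nd := nd_plus 4 F
  have hle : P ≤ omegaGL (quadFormPlus 4 F) := hP.le.trans pre_le_omegaGL
  have hfix : FixesQuadForm (matrixSet P) (quadFormPlus 4 F) := by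
    rintro _ ⟨x, hx, rfl⟩ v
    exact mem_fix (hle hx) v
  have hFQ : FixQ P := ⟨_, nd, hfix⟩
  have hsd : SD P := H879.Nine.sd_of_fixQ hFQ
  -- the exponent from a name
  have K1 : ∀ {g : Grp}, IsNamed g S → HasChar p g → ∃ f, 1 ≤ f ∧ fld g = p ^ f ∧ f * Mg g = 6 * a ∧
      KD p f (Nat.card S) (Xg g) (Yg g) (Mg g) (ag g) ∧
      TD p a (Nat.card S) (fun i => 1 ≤ i ∧ i ≤ 6 ∧ (2 ∣ i ∨ i = 4)) 6 12 :=
    fun hn hc => key hF h S hS hna hC hr hn hc
  have inj : ∀ {f f' : ℕ}, p ^ f = p ^ f' → f = f' := fun h => Nat.pow_right_injective hp.two_le h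
  have hFc : Fintype.card F = p ^ a := by rw [← Nat.card_eq_fintype_card]; exact hF
  let ε : I8 ≃ Fin 8 := Fintype.equivFinOfCardEq h8
  rcases H905.Md.small_dc (p := p) hcore.absIrred.1 hcore.perfect hL (by rw [h8]; norm_num) with
    h' | h' | h' | h' | h' | h' | h' | h' | h' | h' | h'
  · obtain ⟨K, i1, i2, i3, l, hl, hK, ⟨e'⟩⟩ := h'
    have hn : IsNamed (.psl (l + 1) (Fintype.card K)) S := by
      refine .mk' ⟨K, inferInstance, inferInstance, rfl, ⟨e.trans e'⟩⟩
        ⟨by omega, fun h => by rw [← Nat.card_eq_fintype_card]; exact hK (by omega), Fintype.isPrimePow_card_of_field⟩ ?_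
      rw [Nat.card_congr (e.trans e').toEquiv]
      exact psl_eq (by omega)
    obtain ⟨f, hf, hfl, hM, -⟩ := K1 hn (exists_pow_card K)
    have hfl' : Fintype.card K = p ^ f := hfl
    have hM' : f * (l + 1) = 6 * a := hM
    rcases (show l = 1 ∨ l = 2 ∨ 3 ≤ l by omega) with rfl | rfl | hl3
    · left
      exact ⟨K, i1, i2, by rw [hfl']; congr 1; omega, ⟨e.trans e'⟩⟩
    · exfalso
      obtain ⟨h1, -⟩ := H911.Ad.sd_psl3 (p := p) hcore hsd e' (by rw [h8]; norm_num)
      rw [Nat.card_eq_fintype_card, Nat.card_eq_fintype_card, hfl', hFc] at h1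
      have := inj h1
      omega
    · exfalso
      rcases (show l + 1 < 8 ∨ l + 1 = 8 ∨ 9 ≤ l + 1 by omega) with h2 | h2 | h2
      · have := (H887.DS.sd_of_psl p hcore (m := l + 1) (by omega) (by rw [h8]; exact h2) (by rw [h8]; omega) e').2.1
        omega
      · have hc' : Core (H879.Rx.rx ε P) := H879.Rx.core_rx ε hcore
        have := hc'.simple
        have h1 := H905.Md.psl_eq p hc'.absIrred hc'.perfect hl hK ((H879.Rx.socEqv ε P).symm.trans e') hc'.no_subfield h2.symm
        have h3 := h1.1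
        rw [Nat.card_eq_fintype_card, Nat.card_eq_fintype_card, hfl', hFc] at h3
        have := inj h3
        subst this
        rw [h2] at hM'
        omega
      · have h1 := H905.Md.psl_rank p hcore.absIrred hcore.perfect hl hK e'
        rw [h8] at h1
        omega
  · obtain ⟨K, i1, i2, i3, m, hm, hm8, hK, ⟨e'⟩⟩ := h'
    rw [h8] at hm8
    have hn : IsNamed (.psp m (Fintype.card K)) S := by
      refine .mk' ⟨K, inferInstance, inferInstance, rfl, ⟨e.trans e'⟩⟩
        ⟨by omega, hK, Fintype.isPrimePow_card_of_field⟩ ?_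
      rw [Nat.card_congr (e.trans e').toEquiv]
      exact psp_eq hm
    obtain ⟨f, hf, hfl, hM, -⟩ := K1 hn (exists_pow_card K)
    have hfl' : Fintype.card K = p ^ f := hfl
    have hM' : f * (2 * m) = 6 * a := hM
    rcases (show m = 2 ∨ m = 3 ∨ m = 4 by omega) with rfl | rfl | rfl
    · exfalso
      obtain ⟨-, -, h1⟩ := H905.Sp4.core_psp4 (p := p) hcore (by rw [Nat.card_eq_fintype_card]; exact hK rfl) e'
        (by rw [h8]; norm_num)
      rw [h8] at h1
      omega
    · right; right; left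
      exact ⟨K, i1, i2, by rw [hfl']; congr 1; omega, ⟨e.trans e'⟩⟩
    · exfalso
      obtain ⟨-, h1⟩ := H925.Nat.psp (p := p) hcore (by rw [h8]; norm_num) le_rfl (by norm_num) e'
      exact h1.sp_not_fixQ (by norm_num) hFQ
  · obtain ⟨K, i1, i2, i3, N, q, hKq, hN, hN8, hq, ⟨e'⟩⟩ := h'
    rcases (show N = 3 ∨ N = 4 ∨ 5 ≤ N by omega) with rfl | rfl | hN5
    · right; left
      have hq2 : IsPrimePow (q ^ 2) := hKq ▸ Fintype.isPrimePow_card_of_field
      have hqp : IsPrimePow q := (isPrimePow_pow_iff (by norm_num)).1 hq2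
      obtain ⟨k', hk'⟩ := exists_pow_card (p := p) K
      have hn : IsNamed (.psu 3 q) S := by
        refine .mk' ⟨K, inferInstance, inferInstance, hKq, ⟨e.trans e'⟩⟩ ⟨le_rfl, hq, hqp⟩ ?_
        rw [Nat.card_congr (e.trans e').toEquiv]
        exact psu_eq hKq hN
      obtain ⟨f, hf, hfl, hM, -⟩ := K1 hn (exists_pow hp two_ne_zero (hKq.symm.trans hk'))
      have hfl' : q = p ^ f := hfl
      have hM' : f * (2 * 3) = 6 * a := hM
      have hfa : f = a := by omega
      rw [hfl', hfa] at hn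
      exact hn
    · exfalso
      have := H876.D3.core_psu_four p K (by rw [h8]; norm_num) hKq hcore e'
      rw [h8] at this
      omega
    · exfalso
      have hc' : Core (H879.Rx.rx ε P) := H879.Rx.core_rx ε hcore
      exact H879.Nine.own_psu (p := p) (by norm_num) hc' (H879.Rx.sd_rx ε hsd) hN5 hKq
        ((H879.Rx.socEqv ε P).symm.trans e')
  · exfalso
    obtain ⟨rfl, K, i1, i2, m, hm, hK, ⟨e'⟩⟩ := h'
    exact H861.SzN.sz_false hcore hm hK e' (by rw [h8]; norm_num) (by rw [h8]; norm_num)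
  · exfalso
    obtain ⟨rfl, K, i1, i2, m, hm, hK, ⟨e'⟩⟩ := h'
    have := H708.ReeSix.ree_eq_seven hcore hm hK e' (by rw [h8]; norm_num)
    rw [h8] at this
    omega
  · obtain ⟨K, i1, i2, i3, m, hm, hm8, hodd, ⟨e'⟩⟩ := h'
    rw [h8] at hm8
    have h2 : (2 : K) ≠ 0 := by
      intro h0
      have h3 : CharP K 2 := CharTwo.of_one_ne_zero_of_two_eq_zero one_ne_zero h0
      obtain ⟨k, -, hk⟩ := FiniteField.card K 2
      rw [hk] at hodd
      exact absurd hodd (by
        rw [Nat.not_odd_iff_even]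
        exact (even_two).pow_of_ne_zero k.ne_zero)
    rcases (show m = 3 ∨ m = 4 by omega) with rfl | rfl
    · right; right; right
      have hn : IsNamed (.oodd 3 (Fintype.card K)) S := by
        refine .mk' ⟨K, inferInstance, inferInstance, rfl, ⟨e.trans e'⟩⟩
          ⟨le_rfl, hodd, Fintype.isPrimePow_card_of_field⟩ ?_
        rw [Nat.card_congr (e.trans e').toEquiv]
        exact oodd_eq le_rfl hodd
      obtain ⟨f, hf, hfl, hM, -⟩ := K1 hn (exists_pow_card K)
      have hfl' : Fintype.card K = p ^ f := hfl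
      have hM' : f * (2 * 3) = 6 * a := hM
      refine ⟨?_, K, i1, i2, by rw [hfl']; congr 1; omega, ⟨e.trans e'⟩⟩
      rintro rfl
      exact h2 (by exact_mod_cast CharP.cast_eq_zero K 2)
    · exfalso
      have h1 := (H925.Nat.po_odd (p := p) hcore (by rw [h8]; norm_num) le_rfl (by norm_num) h2 e').2.card_eq
      simp at h1
  · exfalso
    obtain ⟨K, i1, i2, i3, m, hm, hm8, ⟨e'⟩⟩ := h'
    rw [h8] at hm8
    obtain rfl : m = 4 := by omega
    have hn : IsNamed (.oplus 4 (Fintype.card K)) S := by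
      refine .mk' ⟨K, inferInstance, inferInstance, rfl, ⟨e.trans e'⟩⟩
        ⟨le_rfl, Fintype.isPrimePow_card_of_field⟩ ?_
      rw [Nat.card_congr (e.trans e').toEquiv]
      exact oplus_eq le_rfl
    obtain ⟨f, hf, hfl, hM, -⟩ := K1 hn (exists_pow_card K)
    have hfl' : Fintype.card K = p ^ f := hfl
    have hM' : f * (2 * (4 - 1)) = 6 * a := hM
    obtain rfl : f = a := by omega
    have h1 : Nat.gcd 4 ((p ^ f) ^ 4 - 1) * Nat.card S =
        (p ^ f) ^ (4 * (4 - 1)) * (((p ^ f) ^ 4 - 1) * prB (p ^ f) (4 - 1)) := by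
      have := hn.eq
      rw [hfl'] at this
      exact this
    have hT8 : Nat.gcd 4 ((p ^ f) ^ 4 - 1) * Nat.card (T8 F) =
        (p ^ f) ^ (4 * (4 - 1)) * (((p ^ f) ^ 4 - 1) * prB (p ^ f) (4 - 1)) := by
      have h1 := oplus_eq (F := F) (m := 4) le_rfl
      rw [hFc] at h1
      exact h1
    rw [← hT8] at h1
    have h2 : Nat.card S = Nat.card (T8 F) :=
      Nat.eq_of_mul_eq_mul_left (Nat.gcd_pos_of_pos_left _ (by norm_num)) h1
    have h3 : Nat.card S ≤ Nat.card R := Nat.le_of_dvd Nat.card_pos (Subgroup.card_subgroup_dvd_card S)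
    exact hR (Subgroup.eq_top_of_le_card R (h2 ▸ h3))
  · exfalso
    obtain ⟨K, i1, i2, i3, m, b, c, hm, hm8, hab, ⟨e'⟩⟩ := h'
    rw [h8] at hm8
    rcases (show m = 4 ∨ m = 5 by omega) with rfl | rfl
    · have hn : IsNamed (.ominus 4 (Fintype.card K)) S := by
        refine .mk' ⟨K, inferInstance, inferInstance, b, c, rfl, hab, ⟨e.trans e'⟩⟩
          ⟨le_rfl, Fintype.isPrimePow_card_of_field⟩ ?_
        rw [Nat.card_congr (e.trans e').toEquiv]
        exact ominus_eq le_rfl hab
      obtain ⟨f, hf, hfl, hM, hKD, hTD⟩ := K1 hn (exists_pow_card K)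
      have hM' : f * (2 * 4) = 6 * a := hM
      -- a primitive prime divisor for the exponent `6`
      obtain ⟨t, ht⟩ := exists_prim (e := f * 6) hp.two_le (by omega) (by omega)
      have hY : Yg (.ominus 4 (Fintype.card K)) 6 := by
        show 4 ≤ 6 ∧ 6 ≤ 2 * 4 ∧ 2 ∣ 6
        omega
      obtain ⟨i, hi, hd⟩ := hTD.exp ht (hKD.has hY (by omega) ht)
      obtain ⟨h1, h2, h3⟩ := hi
      obtain ⟨b', rfl⟩ : ∃ b', f = 3 * b' := ⟨f / 3, by omega⟩
      obtain rfl : a = 4 * b' := by omega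
      obtain ⟨c', hc'⟩ := hd
      have h5 : b' ≠ 0 := by omega
      have h6 : 4 * i = 18 * c' := by
        have : b' * (4 * i) = b' * (18 * c') := by
          calc b' * (4 * i) = 4 * b' * i := by ring
            _ = 3 * b' * 6 * c' := hc'
            _ = b' * (18 * c') := by ring
        exact Nat.eq_of_mul_eq_mul_left (by omega) this
      omega
    · obtain ⟨τ, h1⟩ := H925.Nat.po_minus (p := p) hcore (by rw [h8]; norm_num) (m := 4) le_rfl (by norm_num) hab e'
      have := h1.card_eq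
      simp at this
  · exfalso
    obtain ⟨-, K, i1, i2, i3, hK, ⟨e'⟩⟩ := h'
    have := (H927.G2.core_g2 p hcore (by rw [Nat.card_eq_fintype_card]; exact hK) e' (by rw [h8]; norm_num)).2.2.2.2
    rw [h8] at this
    omega
  · exfalso
    obtain ⟨-, K, i1, i2, i3, q, hq, hK, ⟨e'⟩⟩ := h'
    obtain ⟨-, h1, -⟩ := H392.TD.d4_small p hcore hq hK e' (by rw [h8]; norm_num)
    obtain ⟨k', hk'⟩ := exists_pow_card (p := p) K
    have T : OrderTable.{0} := table
    have hn : IsNamed (.td4 q) S := by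
      refine .mk' ⟨K, inferInstance, inferInstance, hK, ⟨e.trans e'⟩⟩ hq ?_
      rw [Nat.card_congr (e.trans e').toEquiv]
      change 1 * _ = _ ^ 12 * _
      rw [T.td4 K q hq hK]; ring
    obtain ⟨f, hf, hfl, hM, -⟩ := K1 hn (exists_pow hp three_ne_zero (hK.symm.trans hk'))
    have hfl' : q = p ^ f := hfl
    have hM' : f * 12 = 6 * a := hM
    rw [hF, hfl', ← pow_mul] at h1
    have := inj h1
    omega
  · exfalso
    obtain ⟨-, hp2, h'⟩ := h'
    have := H927.LDTwF4.card_le_iso hp2 hcore.perfect h'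
    rw [h8] at this
    omega

end

end Cfsg.Agent.H911.O8S
end

-- part: H532/O8S/Cross
section
prune_inst 0x440002200000000001000003c06d6000190002b00015120094004863f0000000f20cc801800008ea2045030006001000040420000000a000000011800800003c2028258a900200000801000000000000000000000000000000000051004000000000
set_option linter.all false
open scoped Cfsg.Agent.FastGrp

/-!
# S3938-OPLUS8 (O4): no cross characteristic socle (helper532)

* `cross_of_known` : with the hypothesis that the socle is known.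
-/

set_option autoImplicit false

namespace Cfsg.Agent.H532.O8S

open Cfsg Cfsg.Geo Cfsg.Agent.OrdDiv Cfsg.Agent.H436 Cfsg.Agent.H264.FKS Cfsg.Agent.H902
open Cfsg.Agent.H902.Names Cfsg.Agent.H708.O8 Cfsg.Agent.H915.LD Cfsg.Agent.H884.El Cfsg.Agent.H936.List12
open Cfsg.Agent.H912.Bd Cfsg.Agent.H912.Five Cfsg.Agent.H823.O8S
open Cfsg.Agent.H105.O8 (lie_dvd charP_of)
open scoped MatrixGroups Matrix

universe u

/-! ### Numbers -/

/-- a multiple of the orders of the automorphism groups of the generic candidates -/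
def B0 : ℕ := 2 ^ 40 * 3 ^ 20 * 5 ^ 2 * 7 * 11 * 17 * 23

theorem six_dvd {p a r k : ℕ} (h : RK p a r k) : 6 ∣ r - 1 := by
  have hr := h.prim.prime
  have hf := Fact.mk hr
  have h0 : ((p : ℕ) : ZMod r) ≠ 0 := by
    rw [ne_eq, ZMod.natCast_eq_zero_iff]
    exact h.prim.not_dvd
  have h1 := ZMod.pow_card_sub_one_eq_one h0
  have h2 : r ∣ p ^ (r - 1) - 1 := by
    rw [← ZMod.natCast_eq_zero_iff, Nat.cast_sub (Nat.one_le_pow _ _ h.hp.pos)]
    push_cast
    rw [h1, sub_self]
  exact (Dvd.intro a rfl).trans ((h.prim.dvd_iff _).1 h2)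

theorem dvd_B0 {p a r k : ℕ} (h : RK p a r k) (hd : r ^ k ∣ B0 * 13) : r = 13 ∧ k = 1 := by
  have hr := h.prim.prime
  have h6 := six_dvd h
  rcases h.cases with ⟨h13, rfl⟩ | ⟨rfl, rfl⟩
  · rw [pow_one] at hd
    have hs : ∀ {s k : ℕ}, s.Prime → r ∣ s ^ k → r = s := fun hs h =>
      (Nat.prime_dvd_prime_iff_eq hr hs).1 (hr.dvd_of_dvd_pow h)
    have hs1 : ∀ {s : ℕ}, s.Prime → r ∣ s → r = s := fun hs h => (Nat.prime_dvd_prime_iff_eq hr hs).1 h
    unfold B0 at hd
    rcases hr.dvd_mul.1 hd with hd | hd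
    rcases hr.dvd_mul.1 hd with hd | hd
    rcases hr.dvd_mul.1 hd with hd | hd
    rcases hr.dvd_mul.1 hd with hd | hd
    rcases hr.dvd_mul.1 hd with hd | hd
    rcases hr.dvd_mul.1 hd with hd | hd
    rcases hr.dvd_mul.1 hd with hd | hd
    · have := hs Nat.prime_two hd; omega
    · have := hs Nat.prime_three hd; omega
    · have := hs Nat.prime_five hd; omega
    · have := hs1 (by norm_num) hd; omega
    · have := hs1 (by norm_num) hd; omega
    · have := hs1 (by norm_num) hd; subst this; omega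
    · have := hs1 (by norm_num) hd; subst this; omega
    · exact ⟨hs1 (by norm_num) hd, rfl⟩
  · exfalso
    unfold B0 at hd
    norm_num at hd

theorem not_dvd_B0 {p a r k : ℕ} (h : RK p a r k) : ¬ r ^ k ∣ B0 := by
  intro hd
  obtain ⟨rfl, rfl⟩ := dvd_B0 h (hd.trans (Dvd.intro _ rfl))
  unfold B0 at hd
  norm_num at hd

theorem mt_ge {p a r k : ℕ} (h : RK p a r k) : 4 ≤ H823.O8S.mt (p ^ a) := by
  have h4 := h.four
  have h5 := h.five
  unfold H823.O8S.mt
  have h1 : Nat.gcd 2 (p ^ a - 1) = if (p ^ a) % 2 = 0 then 1 else 2 := by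
    split_ifs with h2
    · exact Nat.coprime_two_left.2 (Nat.odd_iff.2 (by omega))
    · exact Nat.gcd_eq_left (by omega)
  rw [h1]
  split_ifs with h2
  · omega
  · omega

theorem mt_cop {p a r k : ℕ} (h : RK p a r k) : ¬ r ∣ H823.O8S.mt (p ^ a) := by
  intro hd
  have h1 : H823.O8S.mt (p ^ a) ∣ p ^ a + 1 := by
    unfold H823.O8S.mt
    apply Nat.div_dvd_of_dvd
    rcases Nat.even_or_odd (p ^ a) with h2 | h2
    · obtain ⟨b, hb⟩ := h2
      have : Nat.gcd 2 (p ^ a - 1) ∣ 1 := by
        have h3 : Nat.gcd 2 (p ^ a - 1) ∣ p ^ a - 1 := Nat.gcd_dvd_right _ _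
        have h4 : Nat.gcd 2 (p ^ a - 1) ∣ 2 := Nat.gcd_dvd_left _ _
        have h5 : Nat.gcd 2 (p ^ a - 1) ∣ p ^ a := h4.trans ⟨b, by omega⟩
        have h6 := Nat.dvd_sub h5 h3
        have h7 : p ^ a - (p ^ a - 1) = 1 := by
          have := h.four
          omega
        rwa [h7] at h6
      exact this.trans (one_dvd _)
    · obtain ⟨b, hb⟩ := h2
      exact (Nat.gcd_dvd_left _ _).trans ⟨b + 1, by omega⟩
  refine h.prim.not_dvd_add ?_ (hd.trans h1)
  intro h2
  have ha := h.ha
  have := Nat.le_of_dvd (by omega) h2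
  omega

/-! ### Orders of automorphism groups -/

section
variable {S : Type u} [Group S] [Finite S] [IsSimpleGroup S]

theorem aut_L (hna : ¬ IsMulCommutative S) {n p f q : ℕ} (hp : p.Prime) (hf : 1 ≤ f) (hq : p ^ f = q) (hn : 2 ≤ n)
    (hn2 : n = 2 → 4 ≤ p ^ f) (h : IsL n q S)
    (hB : 24 * f * ((p ^ f) ^ (n * (n - 1) / 2) * ∏ i ∈ Finset.range (n - 1), ((p ^ f) ^ (i + 2) - 1)) ∣ B0) :
    Nat.card (MulAut S) ∣ B0 := by
  subst hq
  obtain ⟨K, iK, iKf, hK, ⟨e⟩⟩ := h
  refine (lie_dvd hna (.psl n p f) ⟨K, iK, iKf, hK, ⟨e⟩⟩ ?_).trans hB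
  rw [Nat.card_congr e.toEquiv]
  exact psl_real hp hf hK hn hn2

theorem aut_U (hna : ¬ IsMulCommutative S) {n p f q : ℕ} (hp : p.Prime) (hf : 1 ≤ f) (hq : p ^ f = q) (hn : 3 ≤ n)
    (hn2 : ¬ (n = 3 ∧ p ^ f = 2)) (h : IsU n q S)
    (hB : 24 * f * ((p ^ f) ^ (n * (n - 1) / 2) *
      ∏ i ∈ Finset.range (n - 1), (if Even i then (p ^ f) ^ (i + 2) - 1 else (p ^ f) ^ (i + 2) + 1)) ∣ B0) :
    Nat.card (MulAut S) ∣ B0 := by
  subst hq
  obtain ⟨K, iK, iKf, hK, ⟨e⟩⟩ := h
  refine (lie_dvd hna (.psu n p f) ⟨K, iK, iKf, hK, ⟨e⟩⟩ ?_).trans hB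
  rw [Nat.card_congr e.toEquiv]
  exact psu_real hp hf hK hn hn2

theorem aut_S (hna : ¬ IsMulCommutative S) {n p f q : ℕ} (hp : p.Prime) (hf : 1 ≤ f) (hq : p ^ f = q) (hn : 2 ≤ n)
    (hn2 : n = 2 → 3 ≤ p ^ f) (h : IsS n q S)
    (hB : 24 * f * ((p ^ f) ^ (n ^ 2) * ∏ i ∈ Finset.range n, ((p ^ f) ^ (2 * (i + 1)) - 1)) ∣ B0) :
    Nat.card (MulAut S) ∣ B0 := by
  subst hq
  obtain ⟨K, iK, iKf, hK, ⟨e⟩⟩ := h
  refine (lie_dvd hna (.psp n p f) ⟨K, iK, iKf, hK, ⟨e⟩⟩ ?_).trans hB
  rw [Nat.card_congr e.toEquiv]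
  exact psp_real hp hf hK hn hn2

theorem aut_OP (hna : ¬ IsMulCommutative S) {n p f q : ℕ} (hp : p.Prime) (hf : 1 ≤ f) (hq : p ^ f = q) (hn : 4 ≤ n)
    (h : IsOP n q S)
    (hB : 24 * f * ((p ^ f) ^ (n * (n - 1)) *
      (((p ^ f) ^ n - 1) * ∏ i ∈ Finset.range (n - 1), ((p ^ f) ^ (2 * (i + 1)) - 1))) ∣ B0) :
    Nat.card (MulAut S) ∣ B0 := by
  subst hq
  obtain ⟨K, iK, iKf, hK, ⟨e⟩⟩ := h
  refine (lie_dvd hna (.oplus n p f) ⟨K, iK, iKf, hK, ⟨e⟩⟩ ?_).trans hB
  rw [Nat.card_congr e.toEquiv]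
  exact oplus_real hp hf hK hn

theorem fac_dvd : Nat.factorial 12 ∣ B0 := by
  have : Nat.factorial 12 = 479001600 := by decide
  rw [this]
  unfold B0
  norm_num

theorem fac_dvd' : Nat.factorial 13 ∣ B0 * 13 := by
  have : Nat.factorial 13 = 6227020800 := by decide
  rw [this]
  unfold B0
  norm_num

omit [Finite S] [IsSimpleGroup S] in
theorem aut_A_eq {m : ℕ} (h5 : 5 ≤ m) (h6 : m ≠ 6) (e : S ≃* alternatingGroup (Fin m)) :
    Nat.card (MulAut S) = m.factorial := by
  rw [Nat.card_congr (MulAut.congr e).toEquiv, ← Nat.card_congr (Equiv.ofBijective _ (S2119.result m (by omega) h6)),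
    Nat.card_eq_fintype_card, Fintype.card_perm, Fintype.card_fin]

omit [Finite S] [IsSimpleGroup S] in
theorem aut_A {m : ℕ} (h5 : 5 ≤ m) (h12 : m ≤ 12) (e : S ≃* alternatingGroup (Fin m)) :
    Nat.card (MulAut S) ∣ B0 := by
  by_cases h6 : m = 6
  · subst h6
    rw [Nat.card_congr (MulAut.congr e).toEquiv, H824.ProdLem.card_aut_a6]
    unfold B0
    norm_num
  · rw [aut_A_eq h5 h6 e]
    exact (Nat.factorial_dvd_factorial h12).trans fac_dvd

theorem aut_spor (hna : ¬ IsMulCommutative S) (hs : IsSporadicGroup S) {x : Grp × ℕ} (hx : x ∈ OrdDiv.spor)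
    (hr : OrdDiv.Real x.1 S) (hB : 2 * x.2 ∣ B0) : Nat.card (MulAut S) ∣ B0 := by
  have h1 := OrdDiv.table.spor S x hx hr
  have h2 : Nat.card (Cfsg.Out S) ≤ 2 := H498.SporOut.index_le_two hs
  have h3 : 0 < Nat.card (Cfsg.Out S) := Nat.card_pos
  rw [← H934.OutB.card_out_mul S hna, h1]
  refine (Nat.mul_dvd_mul ?_ (dvd_refl _)).trans hB
  interval_cases Nat.card (Cfsg.Out S) <;> norm_num

end

/-! ### `Sz(8)` -/

/-- the elements commuting with an element of order 13 -/
theorem sz8_comm {K : Type} [Field K] [Fintype K] (hK : Fintype.card K = 2 ^ (2 * 1 + 1)) {g y : Cfsg.Sz K 1}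
    (hg : orderOf g = 13) (hy : y * g = g * y) : y ^ 13 = 1 := by
  have hfin : Finite (Cfsg.suzukiOvoid K 1) := Finite.of_equiv _ (Cfsg.Agent.LieExceptional.SuzukiBasic.ovoidEquiv K 1)
  have HH := Cfsg.Agent.LieExceptional.SuzukiHyp.hyp (F := K) le_rfl hK
  have h13 : Fact (Nat.Prime 13) := ⟨by norm_num⟩
  have hfree : g ∈ Cfsg.Agent.LieExceptional.SuzukiTori.Hyp.free (Cfsg.Sz K 1) (Cfsg.suzukiOvoid K 1) := by
    show Nat.card (MulAction.fixedBy (Cfsg.suzukiOvoid K 1) g) = 0
    have h1 := Cfsg.Agent.LieExceptional.SuzukiTori.card_modEq_fixedBy (Ω := Cfsg.suzukiOvoid K 1) (p := 13)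
      (by norm_num) (show g ^ 13 = 1 by rw [← hg, pow_orderOf_eq_one])
    have h2 := HH.three g (by rintro rfl; rw [orderOf_one] at hg; omega)
    rw [HH.card_set] at h1
    have h3 : (2 ^ (2 * 1 + 1)) ^ 2 + 1 = 65 := by norm_num
    rw [h3] at h1
    unfold Nat.ModEq at h1
    omega
  have hle := Cfsg.Agent.H753.AbSz.card_free_le HH hfree
  have h4 : 2 ^ (2 * 1 + 1) + 2 ^ (1 + 1) + 1 = 13 := by norm_num
  rw [h4] at hle
  have hsub : Subgroup.zpowers g ≤ Subgroup.centralizer ({g} : Set (Cfsg.Sz K 1)) := by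
    rw [Subgroup.zpowers_le, Subgroup.mem_centralizer_singleton_iff]
  have heq : Subgroup.zpowers g = Subgroup.centralizer ({g} : Set (Cfsg.Sz K 1)) :=
    Subgroup.eq_of_le_of_card_ge hsub (by rw [Nat.card_zpowers, hg]; exact hle)
  have hmem : y ∈ Subgroup.zpowers g := by
    rw [heq, Subgroup.mem_centralizer_singleton_iff]
    exact hy
  obtain ⟨n, rfl⟩ := Subgroup.mem_zpowers_iff.1 hmem
  rw [← zpow_natCast, ← zpow_mul, mul_comm, zpow_mul, zpow_natCast, ← hg, pow_orderOf_eq_one, one_zpow]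

theorem card_aut_sz8 {S : Type u} [Group S] [Finite S] [IsSimpleGroup S] (hna : ¬ IsMulCommutative S)
    (h : IsSz8 S) : Nat.card S = 29120 ∧ Nat.card (MulAut S) = 3 * Nat.card S := by
  obtain ⟨K, iK, iKf, hK, ⟨e⟩⟩ := h
  have h1 := OrdDiv.table.{0}.sz K 1 le_rfl hK
  have h2 : Nat.card S = Nat.card ↥(Lie.Sz K (2 ^ (1 + 1))) := Nat.card_congr e.toEquiv
  have h3 := Cfsg.Agent.S2126.result (F := K) (m := 1) le_rfl hK
  have h4 : Nat.card (Cfsg.Out S) = 3 := by
    rw [H934.OutB.card_out_congr e]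
    exact h3
  constructor
  · rw [h2, h1]
    rfl
  · rw [← H934.OutB.card_out_mul S hna, h4]

theorem sz8_row {R : Type u} [Group R] [Finite R] (S : Subgroup R) [hn : S.Normal] [IsSimpleGroup S]
    (hna : ¬ IsMulCommutative S) (hC : Subgroup.centralizer (S : Set R) = ⊥) (h : IsSz8 S) {x t : R}
    (hx : orderOf x = 13) (hxt : x * t = t * x) : t ^ 39 = 1 := by
  obtain ⟨h1, h2⟩ := card_aut_sz8 hna h
  have h3 : S.index ∣ 3 := by
    have h4 := dvd_aut S hC
    rw [h2, ← Subgroup.index_mul_card S] at h4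
    exact Nat.dvd_of_mul_dvd_mul_right Nat.card_pos h4
  have hmem : ∀ y : R, y ^ 3 ∈ S := by
    intro y
    obtain ⟨c, hc⟩ := h3
    rw [hc, pow_mul]
    exact pow_mem (Subgroup.pow_index_mem S y) c
  have hx' : x ∈ S := by
    have h4 : x ^ 27 = x := by
      have h5 : x ^ 27 = x ^ 13 * x ^ 13 * x := by group
      rw [h5, ← hx, pow_orderOf_eq_one, one_mul, one_mul]
    rw [← h4, show (27 : ℕ) = 3 * 9 by norm_num, pow_mul]
    exact pow_mem (hmem x) 9
  obtain ⟨K, iK, iKf, hK, ⟨e⟩⟩ := h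
  have hK' : Fintype.card K = 2 ^ (2 * 1 + 1) := hK
  obtain ⟨f⟩ := Cfsg.Agent.OddCyclic.ClaimC.SzIso.iso (F := K) (m := 1) le_rfl hK'
  let g : S ≃* Cfsg.Sz K 1 := e.trans f.symm
  have hg : orderOf (g ⟨x, hx'⟩) = 13 := by
    rw [MulEquiv.orderOf_eq, Subgroup.orderOf_mk, hx]
  have hc : Commute x t := hxt
  have hcomm : g ⟨t ^ 3, hmem t⟩ * g ⟨x, hx'⟩ = g ⟨x, hx'⟩ * g ⟨t ^ 3, hmem t⟩ := by
    rw [← map_mul, ← map_mul]
    congr 1
    exact Subtype.ext (hc.symm.pow_left 3)
  have h5 := sz8_comm hK' hg hcomm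
  rw [← map_pow, ← map_one g] at h5
  have h6 := congrArg Subtype.val (g.injective h5)
  have h7 : (t ^ 3) ^ 13 = 1 := h6
  rwa [← pow_mul] at h7

/-! ### The theorem -/

section
variable {F : Type} [Field F] [Fintype F] {p a r k : ℕ}

theorem cross_of_known (hF : Nat.card F = p ^ a) (h : RK p a r k) {R : Subgroup (T8 F)}
    (S : Subgroup R) [S.Normal] (hS : IsSimpleGroup S) (hna : ¬ IsMulCommutative S)
    (hC : Subgroup.centralizer (S : Set R) = ⊥) {P : Subgroup (GL H708.O8.I8 F)}
    (hP : IsResidualCore (pre (quadFormPlus 4 F) R) P) (e : S ≃* Soc P) (hL : ¬ IsLieTypeChar p (Soc P))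
    (hk : IsKnownSimple' (Soc P))
    {x t : R} (hx : orderOf x = r ^ k) (ht : orderOf t = H823.O8S.mt (p ^ a)) (hxt : x * t = t * x) : False := by
  have := charP_of h.hp h.ha hF
  have hpf := Fact.mk h.hp
  let ix : H708.O8.I8 ≃ Fin 8 := finSumFinEquiv
  obtain ⟨P', hP'⟩ : ∃ P' : Subgroup (GL (Fin 8) F), P' = H936.Reix.rx ix P := ⟨_, rfl⟩
  have hC' : Core P' := by rw [hP']; exact H936.Reix.core_rx ix (core_of_residual hP)
  have e' : Soc P ≃* Soc P' := by rw [hP']; exact H936.Reix.socEquiv ix P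
  have hk' := OddHalf.Known.isKnownSimple'_congr e' (core_of_residual hP).nonabelian hk
  have hL' : ¬ IsLieTypeChar p (Soc P') := fun h => hL (OddHalf.Known.isLieTypeChar_congr e'.symm h)
  have ee : S ≃* Soc P' := e.trans e'
  have hsim : IsSimpleGroup (Soc P') := hC'.simple
  have hna' : ¬ IsMulCommutative (Soc P') := hC'.nonabelian
  have hdv : r ^ k ∣ Nat.card (MulAut (Soc P')) := by
    rw [← Nat.card_congr (MulAut.congr ee).toEquiv]
    have h1 : r ^ k ∣ Nat.card R := by
      rw [← hx]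
      exact orderOf_dvd_natCard x
    exact h1.trans (dvd_aut S hC)
  have key : ¬ Nat.card (MulAut (Soc P')) ∣ B0 := fun h1 => not_dvd_B0 h (hdv.trans h1)
  have h8 : Fintype.card (Fin 8) = 8 := Fintype.card_fin 8
  have kill : CandD p 8 (Soc P') → False := by
    intro hc
    rcases hc with hc | hc | hc | ⟨hp2, -, hc⟩ | hc
    · obtain ⟨m, h5, h14, h15, -, h12, ⟨f⟩⟩ := hc
      by_cases h13 : m ≤ 12
      · exact key (aut_A h5 h13 f)
      · have hm : m = 13 := by
          by_contra hcon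
          have := h12 (by omega)
          omega
        subst hm
        have hp5 : p = 5 := by
          by_contra hcon
          have := h15 hcon (by norm_num)
          omega
        rw [aut_A_eq (by norm_num) (by norm_num) f] at hdv
        obtain ⟨rfl, rfl⟩ := dvd_B0 h (hdv.trans fac_dvd')
        subst hp5
        have h1 := (h.prim.dvd_iff 4).1 (by norm_num)
        have ha := h.ha
        have := Nat.le_of_dvd (by norm_num) h1
        omega
    · rcases hc with ⟨q, hq, h1, h2, h3⟩ | ⟨h3, -, h4⟩ | ⟨-, -, h4⟩ | ⟨-, h4, -⟩ | ⟨-, -, -, h4⟩ | ⟨-, -, h4⟩ |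
        ⟨-, h4, -⟩ | ⟨-, -, h4⟩ | ⟨-, -, h4⟩
      · simp only [Finset.mem_insert, Finset.mem_singleton] at hq
        rcases hq with rfl | rfl | rfl | rfl | rfl | rfl | rfl | rfl
        · exact key (aut_L hna' (p := 7) (f := 1) (by norm_num) le_rfl (by norm_num) le_rfl (fun _ => by norm_num) h3
            (by unfold B0; simp only [Finset.prod_range_succ, Finset.prod_range_zero]; norm_num))
        · exact key (aut_L hna' (p := 2) (f := 3) (by norm_num) (by norm_num) (by norm_num) le_rfl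
            (fun _ => by norm_num) h3
            (by unfold B0; simp only [Finset.prod_range_succ, Finset.prod_range_zero]; norm_num))
        · exact key (aut_L hna' (p := 11) (f := 1) (by norm_num) le_rfl (by norm_num) le_rfl (fun _ => by norm_num) h3
            (by unfold B0; simp only [Finset.prod_range_succ, Finset.prod_range_zero]; norm_num))
        · obtain ⟨K, iK, iKf, hK, ⟨f⟩⟩ := h3
          have h4 := H464.Sl2.l2_degrees p hC' (K := K) (by omega) (by omega) (by rw [hK]; exact h1) f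
            (by rw [h8]; norm_num)
          rw [h8] at h4
          simp only [hK, _root_.Nat.reduceEqDiff, _root_.Finset.mem_insert, _root_.Finset.mem_singleton, _root_.or_self, _root_.and_self, _root_.Nat.succ_ne_self, _root_.or_true, _root_.and_true, _root_.or_false, _root_.and_false] at h4
        · exact key (aut_L hna' (p := 17) (f := 1) (by norm_num) le_rfl (by norm_num) le_rfl (fun _ => by norm_num) h3
            (by unfold B0; simp only [Finset.prod_range_succ, Finset.prod_range_zero]; norm_num))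
        · norm_num at h2
        · norm_num at h2
        · norm_num at h2
      · obtain ⟨K, iK, iKf, hK, ⟨f⟩⟩ := h4
        have h5 := (H175.L33.l33 hC' p h3 hK f (by rw [h8]; norm_num)).2.2.2
        rw [h8] at h5
        omega
      · exact key (aut_U hna' (p := 3) (f := 1) (by norm_num) le_rfl (by norm_num) le_rfl (by norm_num) h4
          (by unfold B0; simp only [Finset.prod_range_succ, _root_.mul_one, _root_.pow_one, _root_.Nat.add_one_sub_one, _root_.Nat.reduceMul, _root_.Nat.reduceDiv, _root_.Nat.reducePow, _root_.Finset.range_one, _root_.Finset.prod_singleton, _root_.Even.zero, ↓ _root_.reduceIte, _root_.zero_add, _root_.Nat.not_even_one, _root_.Nat.reduceAdd, _root_.Nat.reduceDvd]))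
      · omega
      · exact key (aut_U hna' (p := 2) (f := 1) (by norm_num) le_rfl (by norm_num) (by norm_num) (by norm_num) h4
          (by unfold B0; simp only [show 4 - 1 = 3 from rfl, Finset.prod_range_succ, Finset.prod_range_zero]
              norm_num [Nat.even_iff]))
      · exact key (aut_U hna' (p := 2) (f := 1) (by norm_num) le_rfl (by norm_num) (by norm_num) (by norm_num) h4
          (by unfold B0; simp only [show 5 - 1 = 4 from rfl, Finset.prod_range_succ, Finset.prod_range_zero]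
              norm_num [Nat.even_iff]))
      · omega
      · exact key (aut_S hna' (p := 2) (f := 1) (by norm_num) le_rfl (by norm_num) (by norm_num) (by norm_num) h4
          (by unfold B0; simp only [Finset.prod_range_succ, Finset.prod_range_zero]; norm_num))
      · exact key (aut_OP hna' (p := 2) (f := 1) (by norm_num) le_rfl (by norm_num) (by norm_num) h4
          (by unfold B0; simp only [Finset.prod_range_succ, Finset.prod_range_zero]; norm_num))
    · rcases hc with ⟨hp2, -, hc⟩ | ⟨-, h3, -⟩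
      · rcases hc with h4 | h4 | ⟨-, h4⟩ | h4 | h4 | h4
        · exact key (aut_L hna' (p := 7) (f := 1) (by norm_num) le_rfl (by norm_num) le_rfl (fun _ => by norm_num) h4
            (by unfold B0; simp only [Finset.prod_range_succ, Finset.prod_range_zero]; norm_num))
        · exact key (aut_L hna' (p := 2) (f := 2) (by norm_num) (by norm_num) (by norm_num) (by norm_num)
            (by norm_num) h4
            (by unfold B0; simp only [Finset.prod_range_succ, Finset.prod_range_zero]; norm_num))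
        · exact key (aut_U hna' (p := 2) (f := 1) (by norm_num) le_rfl (by norm_num) (by norm_num) (by norm_num) h4
            (by unfold B0; simp only [show 4 - 1 = 3 from rfl, Finset.prod_range_succ, Finset.prod_range_zero]
                norm_num [Nat.even_iff]))
        · exact key (aut_S hna' (p := 2) (f := 1) (by norm_num) le_rfl (by norm_num) (by norm_num) (by norm_num) h4
            (by unfold B0; simp only [Finset.prod_range_succ, Finset.prod_range_zero]; norm_num))
        · exact key (aut_OP hna' (p := 2) (f := 1) (by norm_num) le_rfl (by norm_num) (by norm_num) h4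
            (by unfold B0; simp only [Finset.prod_range_succ, Finset.prod_range_zero]; norm_num))
        · have h5 := (H937.G24.row hC' h4 p hp2 (by rw [h8]; norm_num)).1
          rw [h8] at h5
          omega
      · omega
    · have hsz : IsSz8 S := by
        obtain ⟨K, iK, iKf, hK, ⟨f⟩⟩ := hc
        exact ⟨K, iK, iKf, hK, ⟨ee.trans f⟩⟩
      have h1 := card_aut_sz8 hna' hc
      have h2 : r ^ k ∣ B0 * 13 := by
        refine hdv.trans ?_
        rw [h1.2, h1.1]
        unfold B0
        norm_num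
      obtain ⟨rfl, rfl⟩ := dvd_B0 h h2
      rw [pow_one] at hx
      have h3 := orderOf_dvd_of_pow_eq_one (sz8_row S hna hC hsz hx hxt)
      rw [ht] at h3
      have h4 := mt_ge h
      have h5 := mt_cop h
      have h6 : H823.O8S.mt (p ^ a) ∣ 3 := by
        have h7 : Nat.Coprime (H823.O8S.mt (p ^ a)) 13 :=
          ((Nat.Prime.coprime_iff_not_dvd (by norm_num)).2 h5).symm
        exact h7.dvd_of_dvd_mul_right (by rw [show 3 * 13 = 39 by norm_num]; exact h3)
      have := Nat.le_of_dvd (by norm_num) h6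
      omega
    · have spor : ∀ {x : Grp × ℕ}, IsSporadicGroup (Soc P') → x ∈ OrdDiv.spor → OrdDiv.Real x.1 (Soc P') →
          2 * x.2 ∣ B0 → False := fun h1 h2 h3 h4 => key (aut_spor hna' h1 h2 h3 h4)
      have hsp : IsSporadicGroup (Soc P') := by
        unfold SporC at hc
        unfold IsSporadicGroup
        (clear * - hc; tauto)
      rcases hc with hc | hc | hc | hc | hc | hc | hc | hc | hc
      · exact spor hsp (x := (.m11, 7920)) (by simp only [OrdDiv.spor, _root_.List.mem_cons, _root_.Prod.mk.injEq, _root_.reduceCtorEq, _root_.Nat.reduceEqDiff, _root_.and_self, _root_.List.not_mem_nil, _root_.or_self, _root_.or_false, _root_.or_true]) hc (by unfold B0; norm_num)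
      · exact spor hsp (x := (.m12, 95040)) (by simp only [OrdDiv.spor, _root_.List.mem_cons, _root_.Prod.mk.injEq, _root_.reduceCtorEq, _root_.Nat.reduceEqDiff, _root_.and_self, _root_.List.not_mem_nil, _root_.or_self, _root_.or_false, _root_.or_true]) hc (by unfold B0; norm_num)
      · exact spor hsp (x := (.m22, 443520)) (by simp only [OrdDiv.spor, _root_.List.mem_cons, _root_.Prod.mk.injEq, _root_.reduceCtorEq, _root_.Nat.reduceEqDiff, _root_.and_self, _root_.List.not_mem_nil, _root_.or_self, _root_.or_false, _root_.or_true]) hc (by unfold B0; norm_num)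
      · exact spor hsp (x := (.m23, 10200960)) (by simp only [OrdDiv.spor, _root_.List.mem_cons, _root_.Prod.mk.injEq, _root_.reduceCtorEq, _root_.Nat.reduceEqDiff, _root_.and_self, _root_.List.not_mem_nil, _root_.or_self, _root_.or_false, _root_.or_true]) hc (by unfold B0; norm_num)
      · exact spor hsp (x := (.m24, 244823040)) (by simp only [OrdDiv.spor, _root_.List.mem_cons, _root_.Prod.mk.injEq, _root_.reduceCtorEq, _root_.Nat.reduceEqDiff, _root_.and_self, _root_.List.not_mem_nil, _root_.or_self, _root_.or_false, _root_.or_true]) hc (by unfold B0; norm_num)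
      · by_cases h11 : p = 11
        · subst h11
          have h1 := H179.JOne.j1_le12_iso hC' hc (by exact_mod_cast CharP.cast_eq_zero F 11) (by rw [h8]; norm_num)
          rw [h8] at h1
          omega
        · exact H659.J1.not_core hC' hc p h11 (by rw [h8]; norm_num)
      · exact spor hsp (x := (.j2, 604800)) (by simp only [OrdDiv.spor, _root_.List.mem_cons, _root_.Prod.mk.injEq, _root_.reduceCtorEq, _root_.Nat.reduceEqDiff, _root_.and_self, _root_.List.not_mem_nil, _root_.or_self, _root_.or_false, _root_.or_true]) hc (by unfold B0; norm_num)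
      · have h1 := (H95.JT.j3 p hC' hc (by rw [h8]; norm_num)).2.1
        rw [h8] at h1
        omega
      · obtain ⟨f⟩ := hc
        by_cases h3 : p = 3
        · subst h3
          have h1 := (H878.Sz.core_Suz_three hC' f (by rw [h8]; norm_num)).1
          rw [h8] at h1
          omega
        · have h1 := (H878.Sz.core_Suz hC' f (by rw [h8]; norm_num) p h3).1
          rw [h8] at h1
          omega
  exact kill (list₂ (p := p) (n := 8) (by norm_num) hC' hk' hL')

end

end Cfsg.Agent.H532.O8S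
end
end
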